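import Cfsg.Agent.H555.RV.Tools

/-!
# Criteria for `¬ D_{2,p}` (helper555)

`no2_of_extra`, `no2_of_elem`, `no2_of_odd`, `no2_of_real`
-/

set_option autoImplicit false

namespace Cfsg.Agent.H555.RV

open Subgroup Cfsg Cfsg.Agent.H571.DExt Cfsg.Agent.H988.CPi Cfsg.Agent.H171.Odd Cfsg.Agent.H555.PiBS
open scoped Pointwise

universe u

variable {S : Type u} [Group S]

/-- `{2,p}`-subgroups have conjugates in `K` -/
theorem KQ.conj_le {p a b : ℕ} {K Q : Subgroup S} (h : KQ p a b K Q) {X : Subgroup S}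
    (hX : PiN ({2, p} : Set ℕ) (Nat.card X)) : ∃ g : S, X.map (MulAut.conj g).toMonoidHom ≤ K := by
  obtain ⟨g, hg⟩ := h.dom X hX
  refine ⟨g⁻¹, ?_⟩
  rintro _ ⟨x, hx, rfl⟩
  obtain ⟨y, hy, hyx⟩ := hg hx
  have h1 : g * y * g⁻¹ = x := hyx
  show g⁻¹ * x * (g⁻¹)⁻¹ ∈ K
  rw [← h1]
  have h2 : g⁻¹ * (g * y * g⁻¹) * (g⁻¹)⁻¹ = y := by group
  rw [h2]
  exact hy

theorem piN_of_pgroup [Finite S] {p : ℕ} (hp : p.Prime) {P : Subgroup S} (hP : IsPGroup p P) :
    PiN ({2, p} : Set ℕ) (Nat.card P) := by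
  have hfp : Fact p.Prime := ⟨hp⟩
  obtain ⟨k, hk⟩ := hP.exists_card_eq
  intro r hr hd
  rw [hk] at hd
  right
  exact (Nat.prime_dvd_prime_iff_eq hr hp).1 (hr.dvd_of_dvd_pow hd)

theorem card_sylow_of [Finite S] {p n b : ℕ} [hp : Fact p.Prime] (P : Sylow p S) (hS : Nat.card S = p ^ b * n)
    (hn : ¬ p ∣ n) : Nat.card (P : Subgroup S) = p ^ b := by
  have h1 := P.card_eq_multiplicity
  have h2 : n ≠ 0 := by rintro rfl; exact hn (dvd_zero p)
  rw [hS, Nat.factorization_mul (pow_ne_zero b hp.out.ne_zero) h2, Nat.factorization_pow, Finsupp.add_apply,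
    Finsupp.smul_apply, hp.out.factorization_self, Nat.factorization_eq_zero_of_not_dvd hn] at h1
  simpa using h1

theorem no2_of_extra [Finite S] {p a m : ℕ} (hp : p.Prime) (hp2 : p ≠ 2) (hS : Nat.card S = 2 ^ a * p ^ 3 * m)
    (h2 : ¬ 2 ∣ m) (hm : ¬ p ∣ m) (hI : Inv1 2 p S) {P : Subgroup S} (hP : IsPGroup p P) {x y : S} (hx : x ∈ P)
    (hy : y ∈ P) (hxy : x * y ≠ y * x) (ha : ∀ k, 1 ≤ k → k ≤ a → ¬ p ^ 2 ∣ 2 ^ k - 1) :
    ¬ Dom ({2, p} : Set ℕ) S := by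
  intro hD
  have hfp : Fact p.Prime := ⟨hp⟩
  obtain ⟨K, Q, h⟩ := exists_KQ hp hp2 hS h2 hm hI hD
  obtain ⟨P', hPP⟩ := hP.exists_le_sylow
  have hc : Nat.card (P' : Subgroup S) = p ^ 3 := by
    refine card_sylow_of P' (n := 2 ^ a * m) (by rw [hS]; ring) ?_
    intro h5
    rcases hp.dvd_mul.1 h5 with h6 | h6
    · exact hp2 ((Nat.prime_dvd_prime_iff_eq hp Nat.prime_two).1 (hp.dvd_of_dvd_pow h6))
    · exact hm h6
  obtain ⟨g, hg⟩ := h.conj_le (piN_of_pgroup hp P'.isPGroup')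
  obtain ⟨k, h1, h3, h4⟩ := h.extra hp hp2 hg (by
    rw [card_map_of_injective (MulAut.conj g).injective, hc])
    ⟨_, ⟨x, hPP hx, rfl⟩, _, ⟨y, hPP hy, rfl⟩, fun h5 => hxy (by
      rw [← map_mul, ← map_mul] at h5
      exact (MulAut.conj g).injective h5)⟩
  exact ha k h1 h3 h4

theorem cent_conj_card {x g : S} : Nat.card (centralizer {g * x * g⁻¹}) = Nat.card (centralizer {x}) := by
  have h1 : (centralizer {x}).map (MulAut.conj g).toMonoidHom = centralizer {g * x * g⁻¹} := by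
    ext y
    constructor
    · rintro ⟨z, hz, rfl⟩
      have hz : Commute z x := mem_centralizer_singleton_iff.1 hz
      rw [mem_centralizer_singleton_iff]
      show g * z * g⁻¹ * (g * x * g⁻¹) = g * x * g⁻¹ * (g * z * g⁻¹)
      have h2 : g * z * g⁻¹ * (g * x * g⁻¹) = g * (z * x) * g⁻¹ := by group
      have h3 : g * x * g⁻¹ * (g * z * g⁻¹) = g * (x * z) * g⁻¹ := by group
      rw [h2, h3, hz.eq]
    · intro hy
      rw [mem_centralizer_singleton_iff] at hy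
      refine ⟨g⁻¹ * y * g, ?_, by show g * (g⁻¹ * y * g) * g⁻¹ = y; group⟩
      show g⁻¹ * y * g ∈ centralizer {x}
      rw [mem_centralizer_singleton_iff]
      have h2 : g⁻¹ * y * g * x = g⁻¹ * (y * (g * x * g⁻¹)) * g := by group
      have h3 : x * (g⁻¹ * y * g) = g⁻¹ * (g * x * g⁻¹ * y) * g := by group
      rw [h2, h3, hy]
  rw [← h1, card_map_of_injective (MulAut.conj g).injective]

theorem no2_of_elem [Finite S] {p a b m d : ℕ} (hp : p.Prime) (hp2 : p ≠ 2) (hS : Nat.card S = 2 ^ a * p ^ b * m)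
    (h2 : ¬ 2 ∣ m) (hm : ¬ p ∣ m) (hI : Inv1 2 p S) {E : Subgroup S} (hc : Nat.card E = p ^ 2)
    (hexp : ∀ x ∈ E, x ^ p = 1) (hinv : ∀ t : S, orderOf t = 2 → ¬ p ^ 2 ∣ Nat.card (centralizer {t}))
    (hd : ∀ k, 1 ≤ k → k < d → ¬ p ∣ 2 ^ k - 1)
    (hx : ∀ x : S, orderOf x = p → ¬ 2 ^ d ∣ Nat.card (centralizer {x}))
    (ha : ∀ k, 1 ≤ k → k ≤ a → ¬ p ^ 2 ∣ 2 ^ k - 1) : ¬ Dom ({2, p} : Set ℕ) S := by
  intro hD
  have hfp : Fact p.Prime := ⟨hp⟩
  obtain ⟨K, Q, h⟩ := exists_KQ hp hp2 hS h2 hm hI hD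
  obtain ⟨g, hg⟩ := h.conj_le (piN_of_pgroup hp (IsPGroup.of_card hc))
  have hc' : Nat.card (E.map (MulAut.conj g).toMonoidHom) = p ^ 2 := by
    rw [card_map_of_injective (MulAut.conj g).injective, hc]
  have hexp' : ∀ x ∈ E.map (MulAut.conj g).toMonoidHom, x ^ p = 1 := by
    rintro _ ⟨x, hx, rfl⟩
    rw [← map_pow, hexp x hx, map_one]
  obtain ⟨k, h1, h3, h4⟩ := h.elem hp hp2 hg hc'
    (fun x hx y hy => congrArg Subtype.val (IsPGroup.commutative_of_card_eq_prime_sq hc' ⟨x, hx⟩ ⟨y, hy⟩))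
    hexp' (fun t ht hle => hinv t ht (hc' ▸ card_dvd_of_le hle)) hd
    (fun x hx1 hx2 => hx x (orderOf_eq_prime (hexp' x hx1) hx2))
  exact ha k h1 h3 h4

theorem no2_of_odd [Finite S] {p a m : ℕ} (hp : p.Prime) (hp2 : p ≠ 2) (hS : Nat.card S = 2 ^ a * p * m)
    (h2 : ¬ 2 ∣ m) (hm : ¬ p ∣ m) (hI : Inv1 2 p S)
    (hN : ∀ x : S, orderOf x = p → ∀ (t : S) (k : ℕ), t ^ 2 ^ k = 1 → t ∈ normalizer (zpowers x : Set S) →
      t ∈ centralizer {x})
    (hself : ∀ T : Subgroup S, IsPGroup 2 T → ¬ 2 ∣ T.index → normalizer (T : Set S) ≤ T) :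
    ¬ Dom ({2, p} : Set ℕ) S := by
  intro hD
  obtain ⟨K, Q, h⟩ := exists_KQ (a := a) (b := 1) hp hp2 (by rw [hS, pow_one]) h2 hm hI hD
  exact h.odd hp hp2 hN hself

/-- a 2-element normalising `⟨x⟩` centralises `x` if `x` is not real -/
theorem cent_of_not_real {p : ℕ} (hp : p.Prime) {x : S} (hx : orderOf x = p) (hr : ∀ t : S, t * x * t⁻¹ ≠ x⁻¹)
    (t : S) (k : ℕ) (ht : t ^ 2 ^ k = 1) (htn : t ∈ normalizer (zpowers x : Set S)) : t ∈ centralizer {x} := by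
  induction k generalizing t with
  | zero =>
    rw [pow_zero, pow_one] at ht
    rw [ht]
    exact one_mem _
  | succ k ih =>
    have h1 := ih (t ^ 2) (by rw [← pow_mul, ← pow_succ']; exact ht) (pow_mem htn 2)
    have h1 : t ^ 2 * x = x * t ^ 2 := mem_centralizer_singleton_iff.1 h1
    obtain ⟨l, hl⟩ := (mem_normalizer_iff.1 htn x).1 (mem_zpowers x)
    have hl : x ^ l = t * x * t⁻¹ := hl
    have h2 : x ^ (l * l) = x := by
      rw [zpow_mul, hl, conj_zpow, hl]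
      have h3 : t * (t * x * t⁻¹) * t⁻¹ = t ^ 2 * x * (t ^ 2)⁻¹ := by rw [pow_two]; group
      rw [h3, h1]
      group
    have h3 : (p : ℤ) ∣ l * l - 1 := by
      rw [← hx, orderOf_dvd_iff_zpow_eq_one, zpow_sub, h2, zpow_one, mul_inv_cancel]
    have h4 : (p : ℤ) ∣ (l - 1) * (l + 1) := by
      have h5 : l * l - 1 = (l - 1) * (l + 1) := by ring
      rwa [h5] at h3
    rcases (Nat.prime_iff_prime_int.1 hp).dvd_mul.1 h4 with h5 | h5
    · rw [← hx, orderOf_dvd_iff_zpow_eq_one, zpow_sub, zpow_one, mul_inv_eq_one] at h5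
      rw [hl] at h5
      rw [mem_centralizer_singleton_iff]
      exact mul_inv_eq_iff_eq_mul.1 h5
    · exfalso
      rw [← hx, orderOf_dvd_iff_zpow_eq_one, zpow_add, zpow_one] at h5
      exact hr t (by rw [← hl]; exact eq_inv_of_mul_eq_one_left h5)

theorem no2_of_real [Finite S] {p a m : ℕ} (hp : p.Prime) (hp2 : p ≠ 2) (hS : Nat.card S = 2 ^ a * p * m)
    (h2 : ¬ 2 ∣ m) (hm : ¬ p ∣ m) (hI : Inv1 2 p S) (hr : ∀ x : S, orderOf x = p → ∀ t : S, t * x * t⁻¹ ≠ x⁻¹)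
    (hself : ∀ T : Subgroup S, IsPGroup 2 T → ¬ 2 ∣ T.index → normalizer (T : Set S) ≤ T) :
    ¬ Dom ({2, p} : Set ℕ) S :=
  no2_of_odd hp hp2 hS h2 hm hI (fun _ hx => cent_of_not_real hp hx (hr _ hx)) hself

/-- a 2-element normalising `⟨x⟩` centralises `x` if `|N : C|` is odd -/
theorem cent_of_odd [Finite S] {x : S} {e : ℕ} (he : ¬ 2 ∣ e)
    (hN : Nat.card (normalizer (zpowers x : Set S)) = Nat.card (centralizer {x}) * e)
    (t : S) (k : ℕ) (ht : t ^ 2 ^ k = 1) (htn : t ∈ normalizer (zpowers x : Set S)) : t ∈ centralizer {x} := by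
  have hCN : centralizer {x} ≤ normalizer (zpowers x : Set S) := by
    intro c hc
    rw [mem_centralizer_singleton_iff] at hc
    apply mem_normalizer_fintype
    rintro y ⟨k, rfl⟩
    refine ⟨k, ?_⟩
    have h1 : Commute c (x ^ k) := Commute.zpow_right hc k
    show x ^ k = c * x ^ k * c⁻¹
    rw [h1.eq, mul_inv_cancel_right]
  set N := normalizer (zpowers x : Set S) with hNdef
  have hn : ((centralizer {x}).subgroupOf N).Normal := by
    refine ⟨fun c hc g => ?_⟩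
    rw [mem_subgroupOf, mem_centralizer_singleton_iff] at hc ⊢
    obtain ⟨l, hl⟩ := (mem_normalizer_iff.1 (inv_mem g.2) x).1 (mem_zpowers x)
    have hl : x ^ l = (g : S)⁻¹ * x * ((g : S)⁻¹)⁻¹ := hl
    have h1 : Commute (c : S) (x ^ l) := Commute.zpow_right (show Commute (c : S) x from hc) l
    have h2 : x = (g : S) * x ^ l * (g : S)⁻¹ := by rw [hl]; group
    show (g : S) * c * (g : S)⁻¹ * x = x * ((g : S) * c * (g : S)⁻¹)
    have h3 : (g : S) * c * (g : S)⁻¹ * ((g : S) * x ^ l * (g : S)⁻¹) =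
        ((g : S) * x ^ l * (g : S)⁻¹) * ((g : S) * c * (g : S)⁻¹) := by
      have h4 : (g : S) * c * (g : S)⁻¹ * ((g : S) * x ^ l * (g : S)⁻¹) = (g : S) * (c * x ^ l) * (g : S)⁻¹ := by group
      rw [h4, h1.eq]
      group
    rwa [← h2] at h3
  have hi : ((centralizer {x}).subgroupOf N).index = e := by
    have h1 := ((centralizer {x}).subgroupOf N).card_mul_index
    rw [Nat.card_congr (subgroupOfEquivOfLe hCN).toEquiv, hN] at h1
    exact Nat.eq_of_mul_eq_mul_left Nat.card_pos h1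
  have h1 := Subgroup.pow_index_mem ((centralizer {x}).subgroupOf N) ⟨t, htn⟩
  rw [hi, mem_subgroupOf] at h1
  have h1 : t ^ e ∈ centralizer {x} := h1
  have h2 : Nat.Coprime (2 ^ k) e := by
    apply Nat.Coprime.pow_left
    exact (Nat.Prime.coprime_iff_not_dvd Nat.prime_two).2 he
  have h6 := Nat.gcd_eq_gcd_ab (2 ^ k) e
  rw [h2] at h6
  have h7 : t = (t ^ 2 ^ k) ^ (Nat.gcdA (2 ^ k) e) * (t ^ e) ^ (Nat.gcdB (2 ^ k) e) := by
    rw [← zpow_natCast t (2 ^ k), ← zpow_natCast t e, ← zpow_mul, ← zpow_mul, ← zpow_add, ← h6, Nat.cast_one, zpow_one]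
  rw [h7, ht, one_zpow, one_mul]
  exact zpow_mem h1 _

/-- the centralizers of all the elements of order `p`, `p ∥ |S|`, have the same order (after helper858) -/
theorem card_cent_all [Finite S] {p n : ℕ} (hp : p.Prime) (hn : Nat.card S = p * n) (hpn : ¬ p ∣ n) {x y : S}
    (hx : orderOf x = p) (hy : orderOf y = p) :
    Nat.card (centralizer ({y} : Set S)) = Nat.card (centralizer ({x} : Set S)) := by
  have hp' : Fact p.Prime := ⟨hp⟩
  obtain ⟨P, hP⟩ : ∃ P : Sylow p S, (P : Subgroup S) = zpowers x := by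
    obtain ⟨P, hP⟩ := (IsPGroup.of_card (p := p) (n := 1) (G := zpowers x) (by rw [Nat.card_zpowers, hx, pow_one])).exists_le_sylow
    exact ⟨P, (eq_of_le_of_card_ge hP (by
      rw [card_sylow_of P (b := 1) (n := n) (by rw [hn, pow_one]) hpn, Nat.card_zpowers, hx, pow_one])).symm⟩
  obtain ⟨Q, hQ⟩ : ∃ Q : Sylow p S, (Q : Subgroup S) = zpowers y := by
    obtain ⟨P, hP⟩ := (IsPGroup.of_card (p := p) (n := 1) (G := zpowers y) (by rw [Nat.card_zpowers, hy, pow_one])).exists_le_sylow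
    exact ⟨P, (eq_of_le_of_card_ge hP (by
      rw [card_sylow_of P (b := 1) (n := n) (by rw [hn, pow_one]) hpn, Nat.card_zpowers, hy, pow_one])).symm⟩
  obtain ⟨g, hg⟩ := MulAction.exists_smul_eq S P Q
  have h1 : (Q : Subgroup S) = (P : Subgroup S).map (MulAut.conj g).toMonoidHom := by
    rw [← hg]; rfl
  rw [hP, hQ] at h1
  have h2 : g * x * g⁻¹ ∈ zpowers y := by rw [h1]; exact ⟨x, mem_zpowers x, rfl⟩
  have h3 : zpowers (g * x * g⁻¹) = zpowers y := by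
    apply eq_of_le_of_card_ge (zpowers_le.2 h2)
    rw [Nat.card_zpowers, Nat.card_zpowers, hy, ← hx]
    have h4 : orderOf (g * x * g⁻¹) = orderOf x := by
      have := (MulAut.conj g).orderOf_eq x
      exact this
    rw [h4]
  have h5 : ∀ z : S, centralizer ((zpowers z : Subgroup S) : Set S) = centralizer ({z} : Set S) := fun z => by
    rw [zpowers_eq_closure, centralizer_closure]
  rw [← h5 y, ← h3, h5, cent_conj_card]

/-- `D_π` under isomorphisms -/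
theorem dom_equiv {π : Set ℕ} {G H : Type*} [Group G] [Group H] [Finite G] (e : G ≃* H) (h : Dom π G) : Dom π H := by
  obtain ⟨L, hL, hdom⟩ := h
  have : Finite H := Finite.of_equiv G e.toEquiv
  refine ⟨L.map e.toMonoidHom, ⟨?_, ?_⟩, ?_⟩
  · have h1 : PiN π (Nat.card (L.map e.toMonoidHom)) := PiN.of_dvd hL.1 (card_map_dvd _ _)
    exact h1
  · have h1 : PiN' π (L.map e.toMonoidHom).index := PiN'.of_dvd hL.2 (index_map_dvd _ e.surjective)
    exact h1
  · intro K hK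
    obtain ⟨g, hg⟩ := hdom (K.map e.symm.toMonoidHom) (PiN.of_dvd hK (card_map_dvd _ _))
    refine ⟨e g, fun x hx => ?_⟩
    have h1 : e.symm x ∈ MulAut.conj g • L := hg ⟨x, hx, rfl⟩
    rw [mem_pointwise_smul_iff_inv_smul_mem] at h1 ⊢
    refine ⟨_, h1, ?_⟩
    simp [MulAut.smul_def, ← map_inv]

theorem ar_five {a : ℕ} (ha : a ≤ 19) : ∀ k, 1 ≤ k → k ≤ a → ¬ 5 ^ 2 ∣ 2 ^ k - 1 := by
  intro k h1 h2
  have h3 : k ≤ 19 := by omega
  interval_cases k <;> norm_num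

theorem ar_seven {a : ℕ} (ha : a ≤ 20) : ∀ k, 1 ≤ k → k ≤ a → ¬ 7 ^ 2 ∣ 2 ^ k - 1 := by
  intro k h1 h2
  have h3 : k ≤ 20 := by omega
  interval_cases k <;> norm_num

theorem ord_five : ∀ k, 1 ≤ k → k < 4 → ¬ 5 ∣ 2 ^ k - 1 := by
  intro k h1 h2
  interval_cases k <;> norm_num

theorem ord_seven : ∀ k, 1 ≤ k → k < 3 → ¬ 7 ∣ 2 ^ k - 1 := by
  intro k h1 h2
  interval_cases k <;> norm_num

end Cfsg.Agent.H555.RV
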