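import Cfsg.Agent.H571.DExtB
import Cfsg.Agent.H171.Odd.Base
import Cfsg.Agent.H555.PiBS.Elem
import Cfsg.Agent.Lib.HallHigman
import Cfsg.Agent.S0144

/-!
# Hall `{2,p}`-subgroups of a group without `T`-invariant `p`-subgroups (helper555)

* `KQ p a b K Q` : `K` a Hall `{2,p}`-subgroup of order `2 ^ a * p ^ b`, `Q = O_2(K)`, `C_K(Q) ≤ Q`, `D_{2,p}`;
* `KQ.elem` : an elementary abelian subgroup of order `p ^ 2` forces `p ^ 2 ∣ 2 ^ j - 1`;
* `KQ.extra` : a nonabelian subgroup of order `p ^ 3` forces `p ^ 2 ∣ 2 ^ j - 1`;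
* `KQ.odd` : `|P| = p`, `|N(P) : C(P)|` odd: contradiction.
-/

set_option autoImplicit false

namespace Cfsg.Agent.H555.RV

open Subgroup Cfsg Cfsg.Agent.H571.DExt Cfsg.Agent.H988.CPi Cfsg.Agent.H171.Odd Cfsg.Agent.H555.PiBS
open scoped Pointwise

universe u

variable {S : Type u} [Group S]

structure KQ (p a b : ℕ) (K Q : Subgroup S) : Prop where
  card : Nat.card K = 2 ^ a * p ^ b
  le : Q ≤ K
  two : IsPGroup 2 Q
  nrm : K ≤ normalizer (Q : Set S)
  cen : K ⊓ centralizer (Q : Set S) ≤ Q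
  hall : IsPiHall ({2, p} : Set ℕ) K
  dom : ∀ X : Subgroup S, PiN ({2, p} : Set ℕ) (Nat.card X) → ∃ g : S, X ≤ MulAut.conj g • K

theorem card_of_hall [Finite S] {p a b m : ℕ} (hp : p.Prime) (hp2 : p ≠ 2) (hS : Nat.card S = 2 ^ a * p ^ b * m)
    (h2 : ¬ 2 ∣ m) (hm : ¬ p ∣ m) {K : Subgroup S} (hK : IsPiHall ({2, p} : Set ℕ) K) :
    Nat.card K = 2 ^ a * p ^ b := by
  have h1 := K.card_mul_index
  rw [hS] at h1
  refine (mul_unique (π := ({2, p} : Set ℕ)) hK.1 hK.2 ?_ ?_ h1)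
  · intro r hr hd
    rcases hr.dvd_mul.1 hd with h | h
    · left; exact (Nat.prime_dvd_prime_iff_eq hr Nat.prime_two).1 (hr.dvd_of_dvd_pow h)
    · right; exact (Nat.prime_dvd_prime_iff_eq hr hp).1 (hr.dvd_of_dvd_pow h)
  · rintro r hr hrπ hd
    rcases hrπ with rfl | h
    · exact h2 hd
    · rw [Set.mem_singleton_iff] at h
      subst h
      exact hm hd

theorem exists_KQ [Finite S] {p a b m : ℕ} (hp : p.Prime) (hp2 : p ≠ 2) (hS : Nat.card S = 2 ^ a * p ^ b * m)
    (h2 : ¬ 2 ∣ m) (hm : ¬ p ∣ m) (hI : Inv1 2 p S) (hD : Dom ({2, p} : Set ℕ) S) :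
    ∃ K Q : Subgroup S, KQ p a b K Q := by
  obtain ⟨K, hK, hdom⟩ := hD
  have hcK := card_of_hall hp hp2 hS h2 hm hK
  have hfp : Fact p.Prime := ⟨hp⟩
  have hf2 : Fact (Nat.Prime 2) := ⟨Nat.prime_two⟩
  have hsol : Group.IsSolvable K := S0144.result 2 p a b Nat.prime_two hp hcK
  -- `O_p(K) = 1`
  have hOp : pCore p K = ⊥ := by
    obtain ⟨T⟩ : Nonempty (Sylow 2 K) := inferInstance
    have h3 := hI ((T : Subgroup K).map K.subtype) (T.isPGroup'.map _)
      (not_dvd_index_map (by simp) hK T) ((pCore p K).map K.subtype)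
      ((Lib.Cores.pCore_isPGroup p).map _) (by
        rintro x ⟨t, -, rfl⟩
        apply mem_normalizer_fintype
        rintro y ⟨z, hz, rfl⟩
        exact ⟨t * z * t⁻¹, (Lib.Cores.pCore_normal p).conj_mem z hz t, by simp⟩)
    rwa [map_eq_bot_iff_of_injective _ (subtype_injective _)] at h3
  have hO2 : pPrimeCore 2 K = ⊥ := by
    have h3 := Lib.Cores.pPrimeCore_coprime (G := K) 2
    have h4 : Nat.card (pPrimeCore 2 K) ∣ p ^ b := by
      have h5 : Nat.card (pPrimeCore 2 K) ∣ 2 ^ a * p ^ b := by rw [← hcK]; exact card_subgroup_dvd_card _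
      exact (Nat.Coprime.pow_right a h3).dvd_of_dvd_mul_left h5
    have h5 : IsPGroup p (pPrimeCore 2 K) := by
      obtain ⟨k, -, hk⟩ := (Nat.dvd_prime_pow hp).1 h4
      exact IsPGroup.of_card hk
    have h6 := Lib.Cores.le_pCore (Lib.Cores.pPrimeCore_normal 2) h5
    rw [hOp] at h6
    exact le_bot_iff.1 h6
  have hC := Lib.HallHigman.centralizer_pCore_le_of_solvable (G := K) 2 hO2
  refine ⟨K, (pCore 2 K).map K.subtype, hcK, map_subtype_le _, (Lib.Cores.pCore_isPGroup 2).map _, ?_, ?_, hK, hdom⟩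
  · intro t ht
    apply mem_normalizer_fintype
    rintro y ⟨z, hz, rfl⟩
    exact ⟨⟨t, ht⟩ * z * ⟨t, ht⟩⁻¹, (Lib.Cores.pCore_normal 2).conj_mem z hz _, by simp⟩
  · rintro x ⟨hx, hxc⟩
    refine ⟨⟨x, hx⟩, hC ?_, rfl⟩
    show (⟨x, hx⟩ : K) ∈ centralizer (pCore 2 K : Set K)
    rw [mem_centralizer_iff]
    intro y hy
    exact Subtype.ext (mem_centralizer_iff.1 hxc (y : S) ⟨y, hy, rfl⟩)

/-! ### orbits -/

theorem dvd_card_of_index {G X : Type*} [Group G] [MulAction G X] [Finite X] {m : ℕ}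
    (h : ∀ x : X, m ∣ (MulAction.stabilizer G x).index) : m ∣ Nat.card X := by
  classical
  rw [Nat.card_congr (MulAction.selfEquivSigmaOrbits G X)]
  have hfin : Finite (MulAction.orbitRel.Quotient G X) := Quotient.finite _
  have := Fintype.ofFinite (MulAction.orbitRel.Quotient G X)
  rw [Nat.card_sigma]
  refine Finset.dvd_sum fun ω _ => ?_
  have h1 := h ω.out
  rwa [MulAction.index_stabilizer] at h1

/-- `P` acts by conjugation on `Q` outside `R` -/
theorem dvd_sub [Finite S] {P Q R : Subgroup S} (hQ : P ≤ normalizer (Q : Set S)) (hR : P ≤ normalizer (R : Set S))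
    (hRQ : R ≤ Q) {m : ℕ} (h : ∀ y ∈ Q, y ∉ R → m ∣ (centralizer {y}).relIndex P) :
    m ∣ Nat.card Q - Nat.card R := by
  classical
  let X := {y : S // y ∈ Q ∧ y ∉ R}
  let _ : MulAction P X :=
    { smul := fun t y => ⟨t * y * (t : S)⁻¹, (mem_normalizer_iff.1 (hQ t.2) y).1 y.2.1,
        fun h5 => y.2.2 ((mem_normalizer_iff.1 (hR t.2) y).2 h5)⟩
      one_smul := fun y => Subtype.ext (by show (1 : S) * y * (1 : S)⁻¹ = y; rw [one_mul, inv_one, mul_one])
      mul_smul := fun s t a => Subtype.ext (by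
        show ((s * t : P) : S) * a * ((s * t : P) : S)⁻¹ = s * (t * a * (t : S)⁻¹) * (s : S)⁻¹
        rw [Subgroup.coe_mul]; group) }
  have hsm : ∀ (t : P) (y : X), ((t • y : X) : S) = t * y * (t : S)⁻¹ := fun _ _ => rfl
  have h1 : m ∣ Nat.card X := by
    refine dvd_card_of_index (G := P) fun y => ?_
    have h2 : MulAction.stabilizer P y = (centralizer {(y : S)}).subgroupOf P := by
      ext t
      rw [MulAction.mem_stabilizer_iff, mem_subgroupOf, mem_centralizer_singleton_iff, ← Subtype.coe_inj, hsm,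
        mul_inv_eq_iff_eq_mul]
    rw [h2]
    exact h y y.2.1 y.2.2
  have h2 : Nat.card X = Nat.card Q - Nat.card R := by
    have h3 := Set.ncard_sdiff (s := (R : Set S)) (t := (Q : Set S)) (fun y hy => hRQ hy)
    exact h3
  rwa [← h2]

theorem card_inf_mul (X P : Subgroup S) : Nat.card (X ⊓ P : Subgroup S) * X.relIndex P = Nat.card P := by
  have h1 := (X.subgroupOf P).card_mul_index
  rw [← h1]
  congr 1
  rw [← subgroupOf_map_subtype, card_map_of_injective (subtype_injective P)]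

theorem eq_bot_of_no_inv [Finite S] {Q : Subgroup S} (h2 : IsPGroup 2 Q) (h : ∀ t ∈ Q, orderOf t ≠ 2) : Q = ⊥ := by
  by_contra hne
  have hf2 : Fact (Nat.Prime 2) := ⟨Nat.prime_two⟩
  have hnt : Nontrivial Q := (nontrivial_iff_ne_bot Q).2 hne
  obtain ⟨n, hn, hc⟩ := h2.nontrivial_iff_card.1 hnt
  obtain ⟨t, ht⟩ := exists_prime_orderOf_dvd_card' (G := Q) 2 (hc ▸ dvd_pow_self 2 (by omega))
  exact h t t.2 (by rw [← ht, Subgroup.orderOf_coe])

/-- a nonabelian group of order `p ^ 3`: subgroups of order `p ^ 2` contain the centre -/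
theorem mem_of_sq [Finite S] {p : ℕ} (hp : p.Prime) {P D : Subgroup S} (hc : Nat.card P = p ^ 3)
    (hna : ∃ x ∈ P, ∃ y ∈ P, x * y ≠ y * x) {c : S} (hcP : c ∈ P) (hcc : ∀ x ∈ P, x * c = c * x)
    (hD : D ≤ P) (hD2 : Nat.card D = p ^ 2) : c ∈ D := by
  by_contra hcD
  have hfp : Fact p.Prime := ⟨hp⟩
  have hcom : ∀ x ∈ D, ∀ y ∈ D, x * y = y * x := by
    intro x hx y hy
    have h1 := IsPGroup.commutative_of_card_eq_prime_sq hD2 ⟨x, hx⟩ ⟨y, hy⟩
    exact congrArg Subtype.val h1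
  have key : ∀ X : Subgroup S, X ≤ P → D ≤ X → c ∈ X → X = P := by
    intro X hXP hDX hcX
    apply eq_of_le_of_card_ge hXP
    have h1 : Nat.card X ∣ p ^ 3 := by rw [← hc]; exact card_dvd_of_le hXP
    obtain ⟨k, hk, hk2⟩ := (Nat.dvd_prime_pow hp).1 h1
    have h2 : 2 < k := by
      by_contra h3
      have h4 : Nat.card X ≤ Nat.card D := by
        rw [hk2, hD2]
        exact Nat.pow_le_pow_right hp.pos (by omega)
      exact hcD (eq_of_le_of_card_ge hDX h4 ▸ hcX)
    rw [hc, hk2]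
    exact Nat.pow_le_pow_right hp.pos (by omega)
  have h1 := key (P ⊓ centralizer (D : Set S)) inf_le_left
    (le_inf hD fun x hx => mem_centralizer_iff.2 fun y hy => hcom y hy x hx)
    ⟨hcP, mem_centralizer_iff.2 fun y hy => hcc y (hD hy)⟩
  have h2 := key (P ⊓ centralizer (P : Set S)) inf_le_left
    (le_inf hD fun x hx => mem_centralizer_iff.2 fun y hy => by
      have h3 : y ∈ P ⊓ centralizer (D : Set S) := by rw [h1]; exact hy
      exact (mem_centralizer_iff.1 h3.2 x hx).symm)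
    ⟨hcP, mem_centralizer_iff.2 fun y hy => hcc y hy⟩
  obtain ⟨x, hx, y, hy, hxy⟩ := hna
  apply hxy
  have h3 : y ∈ P ⊓ centralizer (P : Set S) := by rw [h2]; exact hy
  exact mem_centralizer_iff.1 h3.2 x hx

theorem KQ.card_Q [Finite S] {p a b : ℕ} {K Q : Subgroup S} (h : KQ p a b K Q) (hp : p.Prime) (hp2 : p ≠ 2)
    {R : Subgroup S} (hR : R ≤ Q) : ∃ j, j ≤ a ∧ Nat.card R = 2 ^ j := by
  have h1 : IsPGroup 2 R := h.two.to_le hR
  have hf2 : Fact (Nat.Prime 2) := ⟨Nat.prime_two⟩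
  obtain ⟨j, hj⟩ := h1.exists_card_eq
  refine ⟨j, ?_, hj⟩
  have h2 : Nat.card R ∣ 2 ^ a * p ^ b := by rw [← h.card]; exact card_dvd_of_le (hR.trans h.le)
  rw [hj] at h2
  have h3 : (2 ^ j) ∣ 2 ^ a := by
    apply Nat.Coprime.dvd_of_dvd_mul_right _ h2
    exact Nat.Coprime.pow _ _ ((Nat.coprime_primes Nat.prime_two hp).2 (Ne.symm hp2))
  exact (Nat.pow_dvd_pow_iff_le_right (by norm_num)).1 h3

/-- `p ^ 2` divides `|Q| - |R|` -/
theorem arith {p m a j i : ℕ} (hp : p.Prime) (hp2 : p ≠ 2) (hj : j ≤ a) (hij : i < j) (h : p ^ m ∣ 2 ^ j - 2 ^ i) :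
    ∃ k, 1 ≤ k ∧ k ≤ a ∧ p ^ m ∣ 2 ^ k - 1 := by
  refine ⟨j - i, by omega, by omega, ?_⟩
  have h1 : 2 ^ j - 2 ^ i = 2 ^ i * (2 ^ (j - i) - 1) := by
    rw [Nat.mul_sub, ← pow_add, mul_one]
    congr 2
    omega
  rw [h1] at h
  exact (Nat.Coprime.pow _ _ ((Nat.coprime_primes hp Nat.prime_two).2 hp2)).dvd_of_dvd_mul_left h

/-- **(T2)** a nonabelian subgroup of order `p ^ 3` of a Hall `{2,p}`-subgroup -/
theorem KQ.extra [Finite S] {p a b : ℕ} {K Q : Subgroup S} (h : KQ p a b K Q) (hp : p.Prime) (hp2 : p ≠ 2)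
    {P : Subgroup S} (hP : P ≤ K) (hc : Nat.card P = p ^ 3) (hna : ∃ x ∈ P, ∃ y ∈ P, x * y ≠ y * x) :
    ∃ k, 1 ≤ k ∧ k ≤ a ∧ p ^ 2 ∣ 2 ^ k - 1 := by
  have hfp : Fact p.Prime := ⟨hp⟩
  have hPp : IsPGroup p P := IsPGroup.of_card hc
  have hnt : Nontrivial P := by
    rw [nontrivial_iff_ne_bot]
    rintro rfl
    rw [card_bot] at hc
    have := Nat.one_lt_pow (n := 3) (by norm_num) hp.one_lt
    omega
  have hnc := hPp.center_nontrivial
  obtain ⟨⟨⟨c, hcP⟩, hcZ⟩, hc1⟩ := exists_ne (1 : center P)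
  have hc1 : c ≠ 1 := fun h5 => hc1 (by subst h5; rfl)
  have hcc : ∀ x ∈ P, x * c = c * x := fun x hx => congrArg Subtype.val (mem_center_iff.1 hcZ ⟨x, hx⟩)
  set R : Subgroup S := Q ⊓ centralizer {c} with hR
  have hPR : P ≤ normalizer (R : Set S) := by
    intro x hx
    apply mem_normalizer_fintype
    rintro y ⟨hy, hyc⟩
    refine ⟨(mem_normalizer_iff.1 (h.nrm (hP hx)) y).1 hy, ?_⟩
    show x * y * x⁻¹ ∈ centralizer {c}
    rw [mem_centralizer_singleton_iff]
    have h1 : Commute y c := mem_centralizer_singleton_iff.1 hyc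
    have h2 : Commute x c := hcc x hx
    exact ((h2.mul_left h1).mul_left h2.inv_left).eq
  have h1 : p ^ 2 ∣ Nat.card Q - Nat.card R := by
    refine dvd_sub (P := P) (hP.trans h.nrm) hPR inf_le_left fun y hy hyR => ?_
    have h2 := card_inf_mul (centralizer {y}) P
    rw [hc] at h2
    have h3 : Nat.card (centralizer {y} ⊓ P : Subgroup S) ∣ p ^ 3 := ⟨_, h2.symm⟩
    obtain ⟨k, hk, hk2⟩ := (Nat.dvd_prime_pow hp).1 h3
    have hcn : c ∉ (centralizer {y} ⊓ P : Subgroup S) := by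
      intro h5
      have h6 : y ∈ centralizer {c} := by
        rw [mem_centralizer_singleton_iff]
        exact (mem_centralizer_singleton_iff.1 h5.1).symm
      exact hyR ⟨hy, h6⟩
    have hk3 : k ≠ 2 := by
      rintro rfl
      exact hcn (mem_of_sq hp hc hna hcP hcc inf_le_right hk2)
    have hk4 : k ≠ 3 := by
      rintro rfl
      have h5 : (centralizer {y} ⊓ P : Subgroup S) = P := eq_of_le_of_card_ge inf_le_right (by rw [hk2, hc])
      apply hcn
      rw [h5]
      exact hcP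
    rw [hk2] at h2
    have h4 : (centralizer {y}).relIndex P = p ^ (3 - k) := by
      apply Nat.eq_of_mul_eq_mul_left (pow_pos hp.pos k)
      rw [h2, ← pow_add]
      congr 1
      omega
    rw [h4]
    exact pow_dvd_pow p (by omega)
  obtain ⟨j, hj, hjQ⟩ := h.card_Q hp hp2 le_rfl
  obtain ⟨i, hi, hiR⟩ := h.card_Q hp hp2 (R := R) inf_le_left
  rw [hjQ, hiR] at h1
  refine arith hp hp2 hj ?_ h1
  by_contra h3
  have h4 : R = Q := eq_of_le_of_card_ge inf_le_left (by rw [hjQ, hiR]; exact Nat.pow_le_pow_right (by norm_num) (by omega))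
  have h5 : c ∈ Q := h.cen ⟨hP hcP, mem_centralizer_iff.2 fun y hy => by
    have h6 : y ∈ R := by rw [h4]; exact hy
    exact mem_centralizer_singleton_iff.1 h6.2⟩
  obtain ⟨k, hk⟩ := h.two ⟨c, h5⟩
  obtain ⟨l, hl⟩ := hPp ⟨c, hcP⟩
  have hk : c ^ 2 ^ k = 1 := congrArg Subtype.val hk
  have hl : c ^ p ^ l = 1 := congrArg Subtype.val hl
  apply hc1
  have h7 : orderOf c ∣ 1 := by
    have h8 : Nat.Coprime (2 ^ k) (p ^ l) := Nat.Coprime.pow _ _ ((Nat.coprime_primes Nat.prime_two hp).2 (Ne.symm hp2))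
    have h9 := Nat.dvd_gcd (orderOf_dvd_of_pow_eq_one hk) (orderOf_dvd_of_pow_eq_one hl)
    rwa [h8] at h9
  rwa [Nat.dvd_one, orderOf_eq_one_iff] at h7

/-- **(T1)** an elementary abelian subgroup of order `p ^ 2` of a Hall `{2,p}`-subgroup -/
theorem KQ.elem [Finite S] {p a b d : ℕ} {K Q : Subgroup S} (h : KQ p a b K Q) (hp : p.Prime) (hp2 : p ≠ 2)
    {E : Subgroup S} (hE : E ≤ K) (hc : Nat.card E = p ^ 2) (hcom : ∀ x ∈ E, ∀ y ∈ E, x * y = y * x)
    (hexp : ∀ x ∈ E, x ^ p = 1) (hinv : ∀ t : S, orderOf t = 2 → ¬ E ≤ centralizer {t})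
    (hd : ∀ k, 1 ≤ k → k < d → ¬ p ∣ 2 ^ k - 1)
    (hx : ∀ x ∈ E, x ≠ 1 → ¬ 2 ^ d ∣ Nat.card (centralizer {x})) :
    ∃ k, 1 ≤ k ∧ k ≤ a ∧ p ^ 2 ∣ 2 ^ k - 1 := by
  have hfp : Fact p.Prime := ⟨hp⟩
  -- the centralizers in `Q` are trivial
  have h1 : ∀ z ∈ E, z ≠ 1 → Q ⊓ centralizer {z} = ⊥ := by
    intro z hz hz1
    have hzc : Nat.card (zpowers z) = p := by
      rw [Nat.card_zpowers]
      exact orderOf_eq_prime (hexp z hz) hz1
    obtain ⟨y, hy, hyz⟩ : ∃ y ∈ E, y ∉ zpowers z := by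
      by_contra h3
      push Not at h3
      have h4 : Nat.card E ≤ Nat.card (zpowers z) := card_le_of_le h3
      rw [hc, hzc] at h4
      nlinarith [hp.two_le]
    have hEz : ∀ w, w * z = z * w → w * y = y * w → E ≤ centralizer {w} := by
      intro w hwz hwy
      have h3 : (E ⊓ centralizer {w} : Subgroup S) = E := by
        apply eq_of_le_of_card_ge inf_le_left
        have h4 : Nat.card (E ⊓ centralizer {w} : Subgroup S) ∣ p ^ 2 := by rw [← hc]; exact card_dvd_of_le inf_le_left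
        obtain ⟨k, hk, hk2⟩ := (Nat.dvd_prime_pow hp).1 h4
        have hzm : z ∈ (E ⊓ centralizer {w} : Subgroup S) := ⟨hz, mem_centralizer_singleton_iff.2 hwz.symm⟩
        have hym : y ∈ (E ⊓ centralizer {w} : Subgroup S) := ⟨hy, mem_centralizer_singleton_iff.2 hwy.symm⟩
        have h5 : 1 < k := by
          by_contra h6
          have h7 : zpowers z ≤ (E ⊓ centralizer {w} : Subgroup S) := zpowers_le.2 hzm
          have h8 : zpowers z = (E ⊓ centralizer {w} : Subgroup S) := by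
            apply eq_of_le_of_card_ge h7
            rw [hk2, hzc]
            calc p ^ k ≤ p ^ 1 := Nat.pow_le_pow_right hp.pos (by omega)
              _ = p := pow_one p
          exact hyz (h8 ▸ hym)
        rw [hc, hk2]
        exact Nat.pow_le_pow_right hp.pos (by omega)
      rw [← h3]
      exact inf_le_right
    set W : Subgroup S := Q ⊓ centralizer {z} with hW
    have hyW : y ∈ normalizer (W : Set S) := by
      apply mem_normalizer_fintype
      rintro w ⟨hw, hwc⟩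
      refine ⟨(mem_normalizer_iff.1 (h.nrm (hE hy)) w).1 hw, ?_⟩
      show y * w * y⁻¹ ∈ centralizer {z}
      rw [mem_centralizer_singleton_iff]
      have h5 : Commute w z := mem_centralizer_singleton_iff.1 hwc
      have h6 : Commute y z := hcom y hy z hz
      exact ((h6.mul_left h5).mul_left h6.inv_left).eq
    have h3 := fix_card hp (hexp y hy) W hyW
    have h4 : (W ⊓ centralizer {y} : Subgroup S) = ⊥ := by
      apply eq_bot_of_no_inv (h.two.to_le (inf_le_left.trans inf_le_left))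
      rintro t ⟨⟨-, ht1⟩, ht2⟩ ht
      exact hinv t ht (hEz t (mem_centralizer_singleton_iff.1 ht1) (mem_centralizer_singleton_iff.1 ht2))
    obtain ⟨j, hj, hjW⟩ := h.card_Q hp hp2 (R := W) inf_le_left
    rw [h4, hjW, card_bot] at h3
    have h5 : p ∣ 2 ^ j - 1 := (Nat.modEq_iff_dvd' (Nat.one_le_two_pow)).1 h3.symm
    have h6 : j = 0 := by
      by_contra h7
      have h8 : ¬ j < d := fun h9 => hd j (by omega) h9 h5
      apply hx z hz hz1
      have h9 : Nat.card W ∣ Nat.card (centralizer {z}) := card_dvd_of_le inf_le_right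
      rw [hjW] at h9
      exact (pow_dvd_pow 2 (by omega)).trans h9
    rw [h6, pow_zero] at hjW
    exact card_eq_one.1 hjW
  have h2 : p ^ 2 ∣ Nat.card Q - Nat.card (⊥ : Subgroup S) := by
    refine dvd_sub (P := E) (hE.trans h.nrm) (fun x _ => by
      apply mem_normalizer_fintype
      intro y hy
      have hy : y = 1 := hy
      subst hy
      show x * 1 * x⁻¹ = 1
      simp) bot_le fun y hy hy1 => ?_
    have h3 := card_inf_mul (centralizer {y}) E
    have h4 : (centralizer {y} ⊓ E : Subgroup S) = ⊥ := by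
      rw [eq_bot_iff]
      rintro z ⟨hz, hzE⟩
      rw [mem_bot]
      by_contra hz1
      apply hy1
      rw [← h1 z hzE hz1]
      refine ⟨hy, ?_⟩
      show y ∈ centralizer {z}
      rw [mem_centralizer_singleton_iff]
      exact (mem_centralizer_singleton_iff.1 hz).symm
    rw [h4, card_bot, one_mul, hc] at h3
    rw [h3]
  obtain ⟨j, hj, hjQ⟩ := h.card_Q hp hp2 le_rfl
  rw [hjQ, card_bot] at h2
  refine ⟨j, ?_, hj, h2⟩
  by_contra h5
  have h6 : j = 0 := by omega
  rw [h6, pow_zero] at hjQ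
  have h7 : Q = ⊥ := card_eq_one.1 hjQ
  have h8 : K = ⊥ := by
    rw [eq_bot_iff]
    intro x hx
    rw [← h7]
    refine h.cen ⟨hx, mem_centralizer_iff.2 fun y hy => ?_⟩
    rw [h7] at hy
    have hy : y = 1 := hy
    rw [hy, one_mul, mul_one]
  have h9 : Nat.card E = 1 := by
    have : E = ⊥ := le_bot_iff.1 (h8 ▸ hE)
    rw [this, card_bot]
  rw [hc] at h9
  have := Nat.one_lt_pow (n := 2) (by norm_num) hp.one_lt
  omega

/-- **(T3)** cyclic Sylow `p`-subgroup of order `p`, centralised by the 2-elements of its normalizer, and self-normalising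
Sylow 2-subgroups -/
theorem KQ.odd [Finite S] {p a : ℕ} {K Q : Subgroup S} (h : KQ p a 1 K Q) (hp : p.Prime) (hp2 : p ≠ 2)
    (hN : ∀ x : S, orderOf x = p → ∀ (t : S) (k : ℕ), t ^ 2 ^ k = 1 → t ∈ normalizer (zpowers x : Set S) →
      t ∈ centralizer {x})
    (hself : ∀ T : Subgroup S, IsPGroup 2 T → ¬ 2 ∣ T.index → normalizer (T : Set S) ≤ T) : False := by
  have hfp : Fact p.Prime := ⟨hp⟩
  have hf2 : Fact (Nat.Prime 2) := ⟨Nat.prime_two⟩
  obtain ⟨P⟩ : Nonempty (Sylow p K) := inferInstance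
  have hcK := h.card
  rw [pow_one] at hcK
  have hcP : Nat.card (P : Subgroup K) = p := by
    have h1 := P.card_eq_multiplicity
    rw [hcK] at h1
    have h2 : (2 ^ a * p).factorization p = 1 := by
      rw [Nat.factorization_mul (by positivity) hp.ne_zero, Nat.factorization_pow]
      simp [Nat.prime_two.factorization, hp.factorization, Ne.symm hp2, Finsupp.single_apply]
    rw [h1, h2, pow_one]
  have hnc : normalizer ((P : Subgroup K) : Set K) ≤ centralizer ((P : Subgroup K) : Set K) := by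
    obtain ⟨x, hx⟩ : ∃ x : K, (P : Subgroup K) = zpowers x := by
      have h1 : IsCyclic (P : Subgroup K) := isCyclic_of_prime_card hcP
      obtain ⟨x, hx⟩ := h1.exists_generator
      refine ⟨x, le_antisymm (fun y hy => ?_) (zpowers_le.2 x.2)⟩
      obtain ⟨k, hk⟩ := hx ⟨y, hy⟩
      exact ⟨k, congrArg Subtype.val hk⟩
    have hxo : orderOf x = p := by rw [← Nat.card_zpowers, ← hx, hcP]
    intro n hn
    have hnK : n ^ (2 ^ a * p) = 1 := by rw [← hcK]; exact pow_card_eq_one'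
    -- the 2-part
    have h1 : (n ^ p) ∈ centralizer {x} := by
      have h2 : ((n ^ p : K) : S) ∈ centralizer {(x : S)} := by
        refine hN x (by rw [Subgroup.orderOf_coe]; exact hxo) _ a ?_ ?_
        · rw [← Subgroup.coe_pow, ← pow_mul, mul_comm, hnK]; rfl
        · have h3 : (n ^ p) ∈ normalizer (zpowers x : Set K) := by rw [← hx]; exact pow_mem hn p
          apply mem_normalizer_fintype
          rintro y ⟨k, rfl⟩
          obtain ⟨l, hl⟩ := (mem_normalizer_iff.1 h3 (x ^ k)).1 ⟨k, rfl⟩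
          exact ⟨l, by
            have h4 := congrArg (Subtype.val : K → S) hl
            simpa using h4⟩
      rw [mem_centralizer_singleton_iff] at h2 ⊢
      exact Subtype.ext h2
    -- the `p`-part
    have h2 : (n ^ 2 ^ a) ∈ (P : Subgroup K) := by
      have h3 : IsPGroup p (zpowers (n ^ 2 ^ a)) := by
        rintro ⟨y, k, rfl⟩
        refine ⟨1, Subtype.ext ?_⟩
        show ((n ^ 2 ^ a) ^ k) ^ p ^ 1 = 1
        rw [pow_one, ← zpow_natCast, ← zpow_mul, mul_comm, zpow_mul, zpow_natCast, ← pow_mul, hnK, one_zpow]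
      have h4 := h3.to_sup_of_normal_right' P.isPGroup' (zpowers_le.2 (pow_mem hn _))
      have h5 := P.is_maximal' h4 le_sup_right
      rw [← h5]
      exact (le_sup_left : zpowers (n ^ 2 ^ a) ≤ _) (mem_zpowers _)
    have h3 : (n ^ 2 ^ a) ∈ centralizer {x} := by
      rw [hx] at h2
      obtain ⟨k, hk⟩ := h2
      rw [← hk, mem_centralizer_singleton_iff]
      exact (Commute.zpow_self x k).eq
    have h4 : n ∈ centralizer {x} := by
      have h5 : Nat.Coprime (2 ^ a) p := Nat.Coprime.pow_left _ ((Nat.coprime_primes Nat.prime_two hp).2 (Ne.symm hp2))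
      have h6 := Nat.gcd_eq_gcd_ab (2 ^ a) p
      rw [h5] at h6
      have h7 : n = (n ^ 2 ^ a) ^ (Nat.gcdA (2 ^ a) p) * (n ^ p) ^ (Nat.gcdB (2 ^ a) p) := by
        rw [← zpow_natCast n (2 ^ a), ← zpow_natCast n p, ← zpow_mul, ← zpow_mul, ← zpow_add, ← h6, Nat.cast_one, zpow_one]
      rw [h7]
      exact mul_mem (zpow_mem h3 _) (zpow_mem h1 _)
    rw [hx, mem_centralizer_iff]
    rintro y ⟨k, rfl⟩
    exact (Commute.zpow_left (mem_centralizer_singleton_iff.1 h4 : Commute n x).symm k).eq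
  have hcompl := MonoidHom.ker_transferSylow_isComplement' P hnc
  obtain ⟨N, hNn, hcompl⟩ : ∃ N : Subgroup K, N.Normal ∧ IsComplement' N (P : Subgroup K) :=
    ⟨_, inferInstance, hcompl⟩
  have h1 : Nat.card N * Nat.card (P : Subgroup K) = Nat.card K := hcompl.card_mul
  rw [hcP, hcK] at h1
  have hcN : Nat.card N = 2 ^ a := Nat.eq_of_mul_eq_mul_right hp.pos h1
  have hN2 : IsPGroup 2 (N.map K.subtype) := (IsPGroup.of_card hcN).map _
  have hidx : ¬ 2 ∣ (N.map K.subtype).index := by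
    rw [index_map_subtype]
    intro h5
    rcases Nat.prime_two.dvd_mul.1 h5 with h6 | h6
    · have h7 : N.index = p := by
        have h8 := N.card_mul_index
        rw [hcN, hcK] at h8
        exact Nat.eq_of_mul_eq_mul_left (by positivity) h8
      rw [h7] at h6
      exact hp2 ((Nat.prime_dvd_prime_iff_eq Nat.prime_two hp).1 h6).symm
    · exact h.hall.2 2 Nat.prime_two (by simp) h6
  have h2 : K ≤ normalizer ((N.map K.subtype : Subgroup S) : Set S) := by
    intro t ht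
    apply mem_normalizer_fintype
    rintro y ⟨z, hz, rfl⟩
    exact ⟨⟨t, ht⟩ * z * ⟨t, ht⟩⁻¹, hNn.conj_mem z hz _, by simp⟩
  have h3 := card_dvd_of_le (h2.trans (hself _ hN2 hidx))
  rw [card_map_of_injective (subtype_injective K), hcN, hcK] at h3
  have h4 : 2 ^ a * p ≤ 2 ^ a := Nat.le_of_dvd (by positivity) h3
  have h5 : 0 < 2 ^ a := by positivity
  nlinarith [hp.two_le]

end Cfsg.Agent.H555.RV
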