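import Cfsg.Agent.H555.RV.Crit
import Cfsg.Agent.H14.InvTwoA
import Cfsg.Agent.H848.McLLocal
import Cfsg.Agent.H809.SylB

/-!
# `McL` is not a `D_{2,7}`-group (helper555)
-/

set_option autoImplicit false

namespace Cfsg.Agent.H555.RV.McLRow

open Subgroup Cfsg Cfsg.Agent.H571.DExt Cfsg.Agent.H171.Odd

universe u

theorem iso : Spor.IsoMcL Spor.McL := ⟨MulEquiv.refl _⟩

theorem card : Nat.card Spor.McL = 898128000 := NotCT.Orders.mcl iso

theorem fin : Finite Spor.McL := Nat.finite_of_card_ne_zero (by rw [card]; norm_num)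

theorem cent {x : Spor.McL} (hx : orderOf x = 7) : Nat.card (centralizer ({x} : Set Spor.McL)) = 14 := by
  have := fin
  obtain ⟨y, hy, hc⟩ := Cfsg.Agent.H848.McLLocal.mcl_seven
  rw [← hc]
  exact card_cent_all (p := 7) (n := 128304000) (by norm_num) (by rw [card]) (by norm_num) hy hx

theorem seven : ¬ Dom ({2, 7} : Set ℕ) Spor.McL := by
  have := fin
  obtain ⟨-, hs, -, -⟩ := TypeM.FactsMcL.facts iso
  refine no2_of_odd (p := 7) (a := 7) (m := 1002375) (by norm_num) (by norm_num) (by rw [card]; norm_num)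
    (by norm_num) (by norm_num) ?_ ?_ ?_
  · refine inv1_of_cent (a := 6) (b := 1) (w := 1) Nat.prime_two (by norm_num) (by rw [card]; norm_num)
      (by rw [card]; norm_num) (fun k h1 h2 => ?_) (fun y hy hd => ?_)
    · obtain rfl : k = 1 := by omega
      norm_num
    · rw [cent hy] at hd
      norm_num at hd
  · intro x hx
    obtain ⟨e, n, he, -, hn, hN, hS, -⟩ := Cfsg.Agent.H848.McLLocal.data_of (S := Spor.McL) (r := 7) (by norm_num)
      (by rw [card]; norm_num) (by rw [card]; norm_num) hx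
    refine cent_of_odd (e := e) ?_ hN
    rw [card, cent hx] at hS
    have he6 : e ∣ 6 := he
    have h6 : e ≤ 6 := Nat.le_of_dvd (by norm_num) he6
    interval_cases e <;> omega
  · intro T hT hTi
    have hf : Fact (Nat.Prime 2) := ⟨Nat.prime_two⟩
    obtain ⟨P, hP⟩ := hT.exists_le_sylow
    have h1 : T = (P : Subgroup Spor.McL) := by
      have h2 := hT.toSylow hTi
      exact (hT.toSylow hTi).3 P.2 hP |>.symm
    rw [h1]
    exact Cfsg.Agent.H809.Syl.selfN_mcl iso P

end Cfsg.Agent.H555.RV.McLRow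

namespace Cfsg.Agent.H555.RV

open Cfsg.Agent.H571.DExt

universe u

/-- **McL, `{2,7}`** -/
theorem no2_mcl_7 {S : Type u} [Group S] [Finite S] (h : Spor.IsoMcL S) : ¬ Dom ({2, 7} : Set ℕ) S := by
  obtain ⟨e⟩ := h
  exact fun hD => McLRow.seven (dom_equiv e hD)

end Cfsg.Agent.H555.RV
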