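import Cfsg.Agent.H555.RV.Crit
import Cfsg.Agent.H14.InvTwoA
import Cfsg.Agent.H47.MeetExt
import Cfsg.Agent.H58.HSOdd
import Cfsg.Agent.HN.AutHS

/-!
# The Higman–Sims group is not a `D_{2,5}`-group (helper555)
-/

set_option autoImplicit false
set_option maxRecDepth 100000

namespace Cfsg.Agent.H555.RV.HSRow

open Subgroup Cfsg Cfsg.Agent.H571.DExt
open Cfsg.Agent.SporadicA.PermTab Cfsg.Agent.HN.HS100
open Cfsg.Agent.H58.HSOdd
open scoped commutatorElement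

theorem ext : Cfsg.Agent.H47.MeetExt.Ext 5 (Cfsg.Agent.H58.HSOdd.wd x5) (Cfsg.Agent.H58.HSOdd.wd y5)
    ⁅Cfsg.Agent.H58.HSOdd.wd x5, Cfsg.Agent.H58.HSOdd.wd y5⁆ := by
  have h := c5
  simp only [Bool.and_eq_true, Bool.not_eq_true'] at h
  obtain ⟨⟨⟨⟨⟨⟨h1, h2⟩, h3⟩, h4⟩, h5⟩, h6⟩, h7⟩ := h
  refine ⟨?_, ?_, ?_, ?_, ?_, ?_⟩
  · rw [← wd_cm, ← wd_app, ← wd_app]; exact eq_of_chk h3
  · rw [← wd_cm, ← wd_app, ← wd_app]; exact eq_of_chk h4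
  · rw [commutatorElement_def]
  · rw [← wd_pw]; exact eq_of_chk h1
  · rw [← wd_pw]; exact eq_of_chk h2
  · rw [← wd_cm, ← wd_nil']; exact ne_of_pt (by norm_num) h7

theorem iso : Spor.IsoHS Q := Cfsg.Agent.HN.AutHS.nonempty_Q.1

theorem five : ¬ Dom ({2, 5} : Set ℕ) Q := by
  have hfin : Finite Q := Nat.finite_of_card_ne_zero (by rw [card_Q]; norm_num)
  have h5 : Fact (Nat.Prime 5) := ⟨by norm_num⟩
  have h := ext
  refine no2_of_extra (p := 5) (a := 9) (m := 693) (by norm_num) (by norm_num) (by rw [card_Q]; norm_num)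
    (by norm_num) (by norm_num) (Cfsg.Agent.H14.InvTwoA.inv_hs iso) (P := h.H) (IsPGroup.of_card h.card_H)
    (x := Cfsg.Agent.H58.HSOdd.wd x5) (y := Cfsg.Agent.H58.HSOdd.wd y5) ⟨1, 0, 0, ?_⟩ ⟨0, 1, 0, ?_⟩ ?_
    (ar_five (by norm_num))
  · simp [Cfsg.Agent.H47.MeetExt.Ext.E]
  · simp [Cfsg.Agent.H47.MeetExt.Ext.E]
  · intro h1
    apply h.c1
    rw [← h.xy, h1]
    group

end Cfsg.Agent.H555.RV.HSRow

namespace Cfsg.Agent.H555.RV

open Cfsg.Agent.H571.DExt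

universe u

/-- **HS, `{2,5}`** -/
theorem no2_hs_5 {S : Type u} [Group S] [Finite S] (h : Cfsg.Spor.IsoHS S) : ¬ Dom ({2, 5} : Set ℕ) S := by
  obtain ⟨e⟩ := h
  obtain ⟨f⟩ := HSRow.iso
  exact fun hD => HSRow.five (dom_equiv (e.trans f.symm) hD)

end Cfsg.Agent.H555.RV
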