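import Cfsg.Agent.H555.RV.Count
import Cfsg.Agent.H14.InvTwoA
import Cfsg.Agent.H47.MeetON
import Cfsg.Agent.H210.On7.Loc

/-!
# The O'Nan group is not a `D_{2,5}`- or `D_{2,7}`-group (helper555)
-/

set_option autoImplicit false
set_option maxRecDepth 100000

namespace Cfsg.Agent.H555.RV.ONRow

open Subgroup Cfsg Cfsg.Agent.H571.DExt
open Cfsg.Agent.H210.On7

universe u

theorem iso : Spor.IsoON Spor.ON := ⟨MulEquiv.refl _⟩

theorem card : Nat.card Spor.ON = 460815505920 := NotCT.Orders.on iso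

theorem seven : ¬ Dom ({2, 7} : Set ℕ) Spor.ON := by
  have hfin : Finite Spor.ON := Nat.finite_of_card_ne_zero (by rw [card]; norm_num)
  have h7 : Fact (Nat.Prime 7) := ⟨by norm_num⟩
  have h := Cfsg.Agent.H47.MeetS.ONan.ext
  refine no2_of_extra (p := 7) (a := 9) (m := 2623995) (by norm_num) (by norm_num) (by rw [card]; norm_num)
    (by norm_num) (by norm_num) (Cfsg.Agent.H14.InvTwoA.inv_on iso) (P := h.H) (IsPGroup.of_card h.card_H)
    (x := Cfsg.Agent.KFacts.MulSpor.ON.w Cfsg.Agent.H51.ONSeven.wx)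
    (y := Cfsg.Agent.KFacts.MulSpor.ON.w Cfsg.Agent.H51.ONSeven.wy) ⟨1, 0, 0, ?_⟩ ⟨0, 1, 0, ?_⟩ ?_
    (ar_seven (by norm_num))
  · simp [Cfsg.Agent.H47.MeetExt.Ext.E]
  · simp [Cfsg.Agent.H47.MeetExt.Ext.E]
  · intro h1
    apply h.c1
    rw [← h.xy, h1]
    group

theorem five : ¬ Dom ({2, 5} : Set ℕ) Spor.ON := by
  have hfin : Finite Spor.ON := Nat.finite_of_card_ne_zero (by rw [card]; norm_num)
  have hs := Cfsg.Agent.H573.Spor.ONSeven.simple_ON
  refine no2_of_cent (p := 5) (a := 9) (m := 180006057) (c := 180) (by norm_num) (by norm_num)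
    (by rw [card]; norm_num) (by norm_num) (by norm_num) (by norm_num) rel.oy
    (Cfsg.Agent.H474.ONC.card_cent_five rel.oy) ?_
  intro e k he he1 hk hS
  have he4 : e ∣ 4 := he
  have h4 : e ≤ 4 := Nat.le_of_dvd (by norm_num) he4
  interval_cases e
  · omega
  · omega
  · omega
  · omega
  · exact ⟨4, by norm_num, by norm_num, by norm_num⟩

end Cfsg.Agent.H555.RV.ONRow

namespace Cfsg.Agent.H555.RV

open Cfsg.Agent.H571.DExt

universe u

/-- **ON, `{2,5}`** -/
theorem no2_on_5 {S : Type u} [Group S] [Finite S] (h : Spor.IsoON S) : ¬ Dom ({2, 5} : Set ℕ) S := by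
  obtain ⟨e⟩ := h
  exact fun hD => ONRow.five (dom_equiv e hD)

/-- **ON, `{2,7}`** -/
theorem no2_on_7 {S : Type u} [Group S] [Finite S] (h : Spor.IsoON S) : ¬ Dom ({2, 7} : Set ℕ) S := by
  obtain ⟨e⟩ := h
  exact fun hD => ONRow.seven (dom_equiv e hD)

end Cfsg.Agent.H555.RV
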