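import Cfsg.Agent.H555.RV.Crit
import Cfsg.Agent.H14.InvTwoA
import Cfsg.Agent.FixBN.HeSB
import Cfsg.Agent.H436.HeFive
import Cfsg.Agent.H997.OutHe2

/-!
# The Held group is not a `D_{2,5}`- or `D_{2,7}`-group (helper555)
-/

set_option autoImplicit false
set_option maxRecDepth 100000

namespace Cfsg.Agent.H555.RV.HeRow

open Subgroup Cfsg Cfsg.Agent.H571.DExt
open Cfsg.Agent.SporadicB.HePerm hiding wd
open Cfsg.Agent.SporadicB.HePerm (act wd)
open Cfsg.Agent.FixBN.HeStab Cfsg.Agent.KFacts.He.Lv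
open Cfsg.Agent.FixBN.HeCent (P₁ P₂ Z P₂_P₁)
open Cfsg.Agent.FixBN.HeData (p1W p2W zW)
open Cfsg.Agent.FixBN.HeSB (P isPGroup_P)

universe u

theorem iso : Spor.IsoHe Spor.He := ⟨MulEquiv.refl _⟩

theorem card_he' : Nat.card Spor.He = 2 ^ 10 * 7 ^ 3 * 11475 := by
  rw [NotCT.Orders.he iso]; norm_num

theorem card_he5 : Nat.card Spor.He = 2 ^ 10 * 5 ^ 2 * 157437 := by
  rw [NotCT.Orders.he iso]; norm_num

theorem Z_ne : Z ≠ 1 := CpAutHe.Seven.ne_one_of_act 0 (by decide +kernel)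

theorem seven : ¬ Dom ({2, 7} : Set ℕ) Spor.He := by
  have := Cfsg.Agent.H436.HeFive.finite_he
  refine no2_of_extra (p := 7) (a := 10) (m := 11475) (by norm_num) (by norm_num) card_he' (by norm_num)
    (by norm_num) (Cfsg.Agent.H14.InvTwoA.inv_he_seven iso) isPGroup_P
    (x := P₂) (y := P₁) (mem_sup_right (mem_sup_left (mem_zpowers _))) (mem_sup_left (mem_zpowers _)) ?_
    (ar_seven (by norm_num))
  intro h
  rw [P₂_P₁, ← mul_assoc] at h
  exact Z_ne (mul_eq_left.1 h)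

theorem inv25 (t : Spor.He) (ht : orderOf t = 2) : ¬ 5 ^ 2 ∣ Nat.card (centralizer ({t} : Set Spor.He)) := by
  have htt : t * t = 1 := by rw [← pow_two, ← ht, pow_orderOf_eq_one]
  have ht1 : t ≠ 1 := by
    intro h
    rw [h, orderOf_one] at ht
    omega
  intro h5
  rcases Cfsg.Agent.KFacts.He.Classes.two_classes_ad htt ht1 with ⟨g, hg⟩ | ⟨g, hg⟩
  · rw [← hg, cent_conj_card] at h5
    have h1 := Cfsg.Agent.CpAutHe.Seven.card_t1
    rw [← Cfsg.Agent.CpAutHe.Seven.t1_conj, cent_conj_card] at h1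
    have h2 : 5 ^ 2 ∣ 21504 := by rw [← h1]; exact h5
    norm_num at h2
  · rw [← hg, cent_conj_card] at h5
    have h2 : 5 ^ 2 ∣ 161280 := h5.trans Cfsg.Agent.H997.OutHe.card_cent_a
    norm_num at h2

theorem five : ¬ Dom ({2, 5} : Set ℕ) Spor.He := by
  have := Cfsg.Agent.H436.HeFive.finite_he
  refine no2_of_elem (p := 5) (a := 10) (b := 2) (m := 157437) (d := 4) (by norm_num) (by norm_num) card_he5
    (by norm_num) (by norm_num) (Cfsg.Agent.H14.InvTwoA.inv_he_five iso) (E := Cfsg.Agent.H436.HeFive.E)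
    Cfsg.Agent.H436.HeFive.card_E ?_ inv25 ord_five ?_ (ar_five (by norm_num))
  · intro x hx
    obtain ⟨u, k, hk⟩ := Cfsg.Agent.H436.HeFive.conj_of_mem hx
    have hk : wd Cfsg.Agent.H436.HeFive.X ^ k = u * x * u⁻¹ := hk
    have h1 : (u * x * u⁻¹) ^ 5 = 1 := by
      rw [← hk, ← zpow_natCast, ← zpow_mul, mul_comm, zpow_mul, zpow_natCast, Cfsg.Agent.H436.HeFive.powX, one_zpow]
    rw [conj_pow] at h1
    have h2 : u * x ^ 5 = u := by
      have := mul_inv_eq_one.1 h1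
      exact this
    exact mul_eq_left.1 h2
  · intro x hx h16
    exact Cfsg.Agent.CpAut.SmallP.He.not_eight_five iso hx ((by norm_num : 8 ∣ 2 ^ 4).trans h16)

end Cfsg.Agent.H555.RV.HeRow

namespace Cfsg.Agent.H555.RV

open Cfsg.Agent.H571.DExt

universe u

/-- **He, `{2,5}`** -/
theorem no2_he_5 {S : Type u} [Group S] [Finite S] (h : Spor.IsoHe S) : ¬ Dom ({2, 5} : Set ℕ) S := by
  obtain ⟨e⟩ := h
  exact fun hD => HeRow.five (dom_equiv e hD)

/-- **He, `{2,7}`** -/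
theorem no2_he_7 {S : Type u} [Group S] [Finite S] (h : Spor.IsoHe S) : ¬ Dom ({2, 7} : Set ℕ) S := by
  obtain ⟨e⟩ := h
  exact fun hD => HeRow.seven (dom_equiv e hD)

end Cfsg.Agent.H555.RV
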