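import Cfsg.Agent.H555.RV.Crit
import Cfsg.Agent.SmallSimple.BurnsideNC

/-!
# The Sylow count for `D_{2,p}` (helper555)

`no2_of_count` : `|S| = 2 ^ a * p ^ b * m`, `2 ^ d` the exact power of 2 in `|N_S(P)|`, `P` Sylow: `D_{2,p}` gives
`2 ^ (a - d) ≡ 1` mod `p`.
-/

set_option autoImplicit false

namespace Cfsg.Agent.H555.RV

open Subgroup Cfsg Cfsg.Agent.H571.DExt Cfsg.Agent.H988.CPi Cfsg.Agent.H171.Odd Cfsg.Agent.H555.PiBS
  Cfsg.Agent.Solvable.SZ
open scoped Pointwise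

universe u

variable {S : Type u} [Group S]

/-- **(T4)** -/
theorem no2_of_count [Finite S] {p a b m d : ℕ} [hp : Fact p.Prime] (hp2 : p ≠ 2) (hS : Nat.card S = 2 ^ a * p ^ b * m)
    (h2 : ¬ 2 ∣ m) (hm : ¬ p ∣ m) (P : Sylow p S) (hd : 2 ^ d ∣ Nat.card (normalizer ((P : Subgroup S) : Set S)))
    (hd' : ¬ 2 ^ (d + 1) ∣ Nat.card (normalizer ((P : Subgroup S) : Set S)))
    (har : ¬ 2 ^ (a - d) ≡ 1 [MOD p]) : ¬ Dom ({2, p} : Set ℕ) S := by
  intro hD
  obtain ⟨K₀, hK₀, hdom⟩ := hD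
  have hcK₀ := card_of_hall hp.out hp2 hS h2 hm hK₀
  have hf2 : Fact (Nat.Prime 2) := ⟨Nat.prime_two⟩
  set N := normalizer ((P : Subgroup S) : Set S) with hN
  obtain ⟨T, hT⟩ := Sylow.exists_subgroup_card_pow_prime 2 hd
  set T1 : Subgroup S := T.map N.subtype with hT1
  have hcT : Nat.card T1 = 2 ^ d := by rw [hT1, card_map_of_injective (subtype_injective N), hT]
  have hTN : T1 ≤ N := map_subtype_le _
  have hcP : Nat.card (P : Subgroup S) = p ^ b := by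
    refine card_sylow_of P (n := 2 ^ a * m) (by rw [hS]; ring) ?_
    intro h5
    rcases hp.out.dvd_mul.1 h5 with h6 | h6
    · exact hp2 ((Nat.prime_dvd_prime_iff_eq hp.out Nat.prime_two).1 (hp.out.dvd_of_dvd_pow h6))
    · exact hm h6
  have hX : PiN ({2, p} : Set ℕ) (Nat.card (T1 ⊔ (P : Subgroup S) : Subgroup S)) := by
    refine piN_sup hTN ?_ (piN_of_pgroup hp.out P.isPGroup')
    intro r hr hrd
    rw [hcT] at hrd
    left
    exact (Nat.prime_dvd_prime_iff_eq hr Nat.prime_two).1 (hr.dvd_of_dvd_pow hrd)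
  obtain ⟨g, hg⟩ := hdom _ hX
  set K : Subgroup S := MulAut.conj g • K₀ with hK
  have hcK : Nat.card K = 2 ^ a * p ^ b := by rw [hK, card_conj_smul, hcK₀]
  have hPK : (P : Subgroup S) ≤ K := le_sup_right.trans hg
  have hTK : T1 ≤ K := le_sup_left.trans hg
  let Q : Sylow p K := P.subtype hPK
  have h1 : normalizer ((Q : Subgroup K) : Set K) = N.subgroupOf K := by
    have h2 : (Q : Subgroup K) = (P : Subgroup S).subgroupOf K := rfl
    rw [h2]
    exact (subgroupOf_normalizer_eq hPK).symm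
  have h3 : Nat.card (Sylow p K) = (normalizer ((Q : Subgroup K) : Set K)).index := Sylow.card_eq_index_normalizer Q
  have h4 := (N.subgroupOf K).card_mul_index
  rw [← h1, ← h3, h1, hcK] at h4
  have h5 : Nat.card (N.subgroupOf K) = Nat.card (N ⊓ K : Subgroup S) := by
    rw [← subgroupOf_map_subtype, card_map_of_injective (subtype_injective K)]
  have h6 : 2 ^ d * p ^ b ∣ Nat.card (N ⊓ K : Subgroup S) := by
    refine Nat.Coprime.mul_dvd_of_dvd_of_dvd ?_ ?_ ?_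
    · exact Nat.Coprime.pow _ _ ((Nat.coprime_primes Nat.prime_two hp.out).2 (Ne.symm hp2))
    · rw [← hcT]; exact card_dvd_of_le (le_inf hTN hTK)
    · rw [← hcP]; exact card_dvd_of_le (le_inf le_normalizer hPK)
  obtain ⟨w, hw⟩ := h6
  rw [h5, hw] at h4
  have h7 : 2 ^ d * (w * Nat.card (Sylow p K)) = 2 ^ a := by
    apply Nat.eq_of_mul_eq_mul_right (pow_pos hp.out.pos b)
    rw [← h4]; ring
  have hda : d ≤ a := (Nat.pow_dvd_pow_iff_le_right (by norm_num)).1 ⟨_, h7.symm⟩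
  have h8 : w * Nat.card (Sylow p K) = 2 ^ (a - d) := by
    apply Nat.eq_of_mul_eq_mul_left (show 0 < 2 ^ d by positivity)
    rw [h7, ← pow_add]
    congr 1
    omega
  obtain ⟨i, hi, hwi⟩ := (Nat.dvd_prime_pow Nat.prime_two).1 (⟨_, h8.symm⟩ : w ∣ 2 ^ (a - d))
  have hi0 : i = 0 := by
    by_contra hne
    apply hd'
    have h9 : 2 ^ (d + 1) ∣ Nat.card (N ⊓ K : Subgroup S) := by
      rw [hw, hwi]
      obtain ⟨j, rfl⟩ := Nat.exists_eq_succ_of_ne_zero hne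
      exact ⟨p ^ b * 2 ^ j, by rw [pow_succ, pow_succ]; ring⟩
    exact h9.trans (card_dvd_of_le inf_le_left)
  rw [hi0, pow_zero] at hwi
  rw [hwi, one_mul] at h8
  apply har
  rw [← h8]
  exact card_sylow_modEq_one p K

/-- the case of a Sylow subgroup of order `p`; `|N(⟨x⟩)| = |C(x)| * e` -/
theorem no2_of_count_one [Finite S] {p a m d : ℕ} (hp : p.Prime) (hp2 : p ≠ 2) (hS : Nat.card S = 2 ^ a * p * m)
    (h2 : ¬ 2 ∣ m) (hm : ¬ p ∣ m) {x : S} (hx : orderOf x = p)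
    (hd : 2 ^ d ∣ Nat.card (normalizer ((zpowers x : Subgroup S) : Set S)))
    (hd' : ¬ 2 ^ (d + 1) ∣ Nat.card (normalizer ((zpowers x : Subgroup S) : Set S)))
    (har : ¬ 2 ^ (a - d) ≡ 1 [MOD p]) : ¬ Dom ({2, p} : Set ℕ) S := by
  have hp' : Fact p.Prime := ⟨hp⟩
  have hn : ¬ p ∣ 2 ^ a * m := by
    intro h5
    rcases hp.dvd_mul.1 h5 with h6 | h6
    · exact hp2 ((Nat.prime_dvd_prime_iff_eq hp Nat.prime_two).1 (hp.dvd_of_dvd_pow h6))
    · exact hm h6
  obtain ⟨P, hP⟩ : ∃ P : Sylow p S, (P : Subgroup S) = zpowers x := by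
    obtain ⟨P, hP⟩ := (IsPGroup.of_card (p := p) (n := 1) (G := zpowers x) (by rw [Nat.card_zpowers, hx, pow_one])).exists_le_sylow
    exact ⟨P, (eq_of_le_of_card_ge hP (by
      rw [card_sylow_of P (b := 1) (n := 2 ^ a * m) (by rw [hS]; ring) hn, Nat.card_zpowers, hx, pow_one])).symm⟩
  exact no2_of_count (a := a) (b := 1) (m := m) (d := d) hp2 (by rw [hS, pow_one]) h2 hm P (by rw [hP]; exact hd)
    (by rw [hP]; exact hd') har

theorem aut_data [Finite S] [IsSimpleGroup S] {p n : ℕ} (hp : p.Prime) (hn : Nat.card S = p * n) (hpn : ¬ p ∣ n)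
    (hn1 : n ≠ 1) {x : S} (hx : orderOf x = p) :
    ∃ e k : ℕ, e ∣ p - 1 ∧ e ≠ 1 ∧ k % p = 1 ∧
      Nat.card (normalizer ((zpowers x : Subgroup S) : Set S)) = Nat.card (centralizer ({x} : Set S)) * e ∧
      Nat.card S = k * (Nat.card (centralizer ({x} : Set S)) * e) ∧ p ∣ Nat.card (centralizer ({x} : Set S)) := by
  have hp' : Fact p.Prime := ⟨hp⟩
  obtain ⟨P, hP⟩ : ∃ P : Sylow p S, (P : Subgroup S) = zpowers x := by
    obtain ⟨P, hP⟩ := (IsPGroup.of_card (p := p) (n := 1) (G := zpowers x) (by rw [Nat.card_zpowers, hx, pow_one])).exists_le_sylow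
    exact ⟨P, (eq_of_le_of_card_ge hP (by
      rw [card_sylow_of P (b := 1) (n := n) (by rw [hn, pow_one]) hpn, Nat.card_zpowers, hx, pow_one])).symm⟩
  have h0 : ∀ z : S, centralizer ((zpowers z : Subgroup S) : Set S) = centralizer ({z} : Set S) := fun z => by
    rw [zpowers_eq_closure, centralizer_closure]
  have hcs : ((P : Subgroup S) : Set S) = (P : Set S) := rfl
  have hne : Nat.card S ≠ p := by
    intro h
    rw [hn] at h
    exact hn1 ((Nat.mul_eq_left hp.ne_zero).1 h)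
  obtain ⟨e, he, he1, -, h3, h4, h5⟩ :=
    Cfsg.Agent.SmallSimple.BurnsideNC.exists_automizer_of_card_eq_prime hne P (by rw [hP, Nat.card_zpowers, hx])
  rw [← hcs, hP, h0] at h3 h5
  refine ⟨e, Nat.card (Sylow p S), he, he1, ?_, h3, ?_, h5⟩
  · have := card_sylow_modEq_one p S
    rw [Nat.ModEq, Nat.mod_eq_of_lt hp.one_lt] at this
    exact this
  · rw [← h4, ← hcs, hP, h3]

/-- the case of a Sylow subgroup of order `p`, from the order of the centralizer -/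
theorem no2_of_cent [Finite S] [IsSimpleGroup S] {p a m c : ℕ} (hp : p.Prime) (hp2 : p ≠ 2)
    (hS : Nat.card S = 2 ^ a * p * m) (h2 : ¬ 2 ∣ m) (hm : ¬ p ∣ m) (hm1 : m ≠ 1) {x : S} (hx : orderOf x = p)
    (hc : Nat.card (centralizer ({x} : Set S)) = c)
    (har : ∀ e k : ℕ, e ∣ p - 1 → e ≠ 1 → k % p = 1 → 2 ^ a * p * m = k * (c * e) →
      ∃ d, 2 ^ d ∣ c * e ∧ ¬ 2 ^ (d + 1) ∣ c * e ∧ 2 ^ (a - d) % p ≠ 1) : ¬ Dom ({2, p} : Set ℕ) S := by
  have hn : ¬ p ∣ 2 ^ a * m := by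
    intro h5
    rcases hp.dvd_mul.1 h5 with h6 | h6
    · exact hp2 ((Nat.prime_dvd_prime_iff_eq hp Nat.prime_two).1 (hp.dvd_of_dvd_pow h6))
    · exact hm h6
  obtain ⟨e, k, he, he1, hk, hN, hSk, -⟩ := aut_data hp (n := 2 ^ a * m) (by rw [hS]; ring) hn
    (fun h => hm1 (Nat.eq_one_of_mul_eq_one_left h)) hx
  rw [hc] at hN hSk
  obtain ⟨d, h3, h4, h5⟩ := har e k he he1 hk (by rw [← hS, hSk])
  refine no2_of_count_one (d := d) hp hp2 hS h2 hm hx (by rw [hN]; exact h3) (by rw [hN]; exact h4) ?_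
  rw [Nat.ModEq, Nat.mod_eq_of_lt hp.one_lt]
  exact h5

end Cfsg.Agent.H555.RV
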