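import Cfsg.Agent.H555.RV.Tools
import Cfsg.Agent.H555.RV.ZComm
import Cfsg.Agent.H14.RowReeJOne
import Cfsg.Agent.H959.RV.Two
import Cfsg.Agent.S1158
import Cfsg.Agent.S1159

/-!
# TEAM RV, box R3: the Ree groups `²G₂(q)` (helper555)

`2 ∈ π`, `3 ∉ π`: `DB π S → FTwo π S`.
-/

set_option autoImplicit false

namespace Cfsg.Agent.H555.RV.ReeRow

open Subgroup Cfsg Cfsg.Agent.H988.CPi Cfsg.Agent.H571.DExt Cfsg.Agent.H571.RV Cfsg.Agent.H959.RV
open Cfsg.Agent.H14.RowReeJOne Cfsg.Agent.H14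

universe u

variable {π : Set ℕ}

/-- the second possibility: `V : 7` -/
structure FS (π : Set ℕ) {S : Type u} [Group S] (H V : Subgroup S) : Prop where
  card : Nat.card V = 8
  cen : centralizer (V : Set S) ≤ V
  nrm : H ≤ normalizer (V : Set S)
  mem : ∀ t ∈ H, t * t = 1 → t ∈ V
  seven : 7 ∣ Nat.card H

theorem two_or {S : Type u} [Group S] [Finite S] (h2 : 2 ∈ π) (h3 : 3 ∉ π) (h8 : Eight S) {H : Subgroup S}
    (hH : IsPiHall π H) : FTwo π S ∨ ∃ V : Subgroup S, FS π H V := by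
  have hf2 : Fact (Nat.Prime 2) := ⟨Nat.prime_two⟩
  have hH3 : ¬ 3 ∣ Nat.card H := fun h => h3 (hH.1 3 Nat.prime_three h)
  have hi2 : ¬ 2 ∣ H.index := hH.2 2 Nat.prime_two h2
  obtain ⟨Q⟩ : Nonempty (Sylow 2 H) := inferInstance
  have hPp : IsPGroup 2 ((Q : Subgroup H).map H.subtype) := Q.2.map _
  have hPi : ¬ 2 ∣ ((Q : Subgroup H).map H.subtype).index := by
    rw [index_map_subtype]
    intro h
    rcases (Nat.prime_two.dvd_mul).1 h with h | h
    · exact Q.not_dvd_index h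
    · exact hi2 h
  set P : Sylow 2 S := hPp.toSylow hPi with hP
  have hPe : (P : Subgroup S) = (Q : Subgroup H).map H.subtype := rfl
  obtain ⟨hP8, hPs, hPC, hPN⟩ := h8.1 P
  have hPH : (P : Subgroup S) ≤ H := by rw [hPe]; exact map_subtype_le _
  have hQP : ∀ x : H, x ∈ (Q : Subgroup H) ↔ (x : S) ∈ (P : Subgroup S) := by
    intro x
    rw [hPe, mem_map]
    constructor
    · intro h; exact ⟨x, h, rfl⟩
    · rintro ⟨y, hy, hyx⟩
      have : y = x := Subtype.ext hyx
      rwa [← this]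
  have hQ8 : Nat.card Q = 8 := by
    rw [← hP8]
    exact (card_map_of_injective H.subtype_injective).symm
  have hQs : ∀ x ∈ Q, x * x = 1 := fun x hx => Subtype.ext (hPs x ((hQP x).1 hx))
  have hQC : centralizer ((Q : Subgroup H) : Set H) ≤ Q := by
    intro x hx
    rw [hQP]
    apply hPC
    rw [mem_centralizer_iff] at hx ⊢
    intro y hy
    have := hx ⟨y, hPH hy⟩ ((hQP _).2 hy)
    exact congrArg Subtype.val this
  have hcyc : ∀ r : ℕ, r.Prime → 5 ≤ r → ∀ R : Subgroup H, IsPGroup r R → IsCyclic R := by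
    intro r hr h5 R hR
    have := h8.2 r hr h5 _ (hR.map H.subtype)
    exact isCyclic_of_injective (R.equivMapOfInjective _ H.subtype_injective).toMonoidHom
      (R.equivMapOfInjective _ H.subtype_injective).injective
  have hd := HallEight.dichotomy Q hQ8 hQs hQC (by
      refine dvd_trans ?_ hPN
      have h1 : (normalizer ((Q : Subgroup H) : Set H)).map H.subtype ≤ normalizer ((P : Subgroup S) : Set S) := by
        rintro _ ⟨x, hx, rfl⟩
        apply mem_normalizer_fintype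
        intro y hy
        exact (hQP _).1 ((mem_normalizer_iff.1 hx ⟨y, hPH hy⟩).1 ((hQP _).2 hy))
      have h2 := card_dvd_of_le h1
      rwa [card_map_of_injective H.subtype_injective] at h2) hH3 hcyc
  rcases hd with hd | ⟨N, hN, hc⟩
  · have hHP : H ≤ normalizer ((P : Subgroup S) : Set S) := by
      intro g hg
      apply mem_normalizer_fintype
      intro y hy
      exact (hQP (⟨g, hg⟩ * ⟨y, hPH hy⟩ * ⟨g, hg⟩⁻¹)).1 (hd.conj_mem _ ((hQP ⟨y, hPH hy⟩).2 hy) ⟨g, hg⟩)
    have h168 : Nat.card H ∣ 168 := (card_dvd_of_le hHP).trans hPN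
    obtain ⟨k, hk⟩ : 8 ∣ Nat.card H := by rw [← hP8]; exact card_dvd_of_le hPH
    have hk21 : k ∣ 21 := by
      rw [hk, show 168 = 8 * 21 by norm_num] at h168
      exact Nat.dvd_of_mul_dvd_mul_left (by norm_num) h168
    have hk' : k = 1 ∨ k = 7 := by
      have h5 : k ≤ 21 := Nat.le_of_dvd (by norm_num) hk21
      rw [hk] at hH3
      interval_cases k <;> omega
    rcases hk' with rfl | rfl
    · left
      refine ⟨H, ⊥, hH, bot_le, ?_, ?_, ?_, ?_⟩
      · intro x _
        apply mem_normalizer_fintype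
        intro y hy
        have hy : y = 1 := hy
        subst hy
        show x * 1 * x⁻¹ = 1
        simp
      · intro a ha b hb
        rw [mem_bot] at ha hb
        rw [ha, hb]
      · rw [card_bot]; norm_num
      · intro p hp hpd
        rw [relIndex_bot_left, hk] at hpd
        exact (Nat.prime_dvd_prime_iff_eq hp Nat.prime_two).1 (hp.dvd_of_dvd_pow (n := 3) (by simpa using hpd))
    · right
      refine ⟨P, hP8, hPC, hHP, ?_, by rw [hk]; norm_num⟩
      intro t ht htt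
      have hidx : (Q : Subgroup H).index = 7 := by
        have h5 := (Q : Subgroup H).card_mul_index
        rw [hQ8, hk] at h5
        omega
      have h5 := Subgroup.pow_index_mem (Q : Subgroup H) ⟨t, ht⟩
      rw [hidx] at h5
      have h6 : (⟨t, ht⟩ : H) ^ 7 = ⟨t, ht⟩ := by
        have h7 : (⟨t, ht⟩ : H) ^ 2 = 1 := by rw [pow_two]; exact Subtype.ext htt
        calc (⟨t, ht⟩ : H) ^ 7 = ((⟨t, ht⟩ : H) ^ 2) ^ 3 * ⟨t, ht⟩ := by rw [← pow_mul, ← pow_succ]
          _ = ⟨t, ht⟩ := by rw [h7, one_pow, one_mul]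
      rw [h6] at h5
      exact (hQP ⟨t, ht⟩).1 h5
  · left
    have hQc : ∀ a ∈ Q, ∀ b ∈ Q, a * b = b * a := by
      intro a ha b hb
      have h1 := hQs a ha
      have h2 := hQs b hb
      have h3 := hQs _ (mul_mem ha hb)
      calc a * b = (a * b)⁻¹ := (inv_eq_of_mul_eq_one_right h3).symm
        _ = b⁻¹ * a⁻¹ := mul_inv_rev _ _
        _ = b * a := by rw [inv_eq_of_mul_eq_one_right h1, inv_eq_of_mul_eq_one_right h2]
    obtain ⟨hodd, hcomm⟩ := comm_of_compl hN Q hc hQc hQC (by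
      intro r hr hr2 R hR
      by_cases h5 : 5 ≤ r
      · exact hcyc r hr h5 R hR
      · have hr3 : r = 3 := by
          have := hr.two_le
          interval_cases r
          · omega
          · rfl
          · exact absurd hr (by norm_num)
        subst hr3
        have hf3 : Fact (Nat.Prime 3) := ⟨Nat.prime_three⟩
        have h1 : Nat.card R = 1 := by
          obtain ⟨k, hk⟩ := hR.exists_card_eq
          rcases Nat.eq_zero_or_pos k with rfl | hk0
          · simpa using hk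
          · exfalso
            apply hH3
            have h2 : Nat.card R ∣ Nat.card H := card_subgroup_dvd_card _
            rw [hk] at h2
            exact (dvd_pow_self 3 (by omega)).trans h2
        have : Subsingleton R := (Nat.card_eq_one_iff_unique.1 h1).1
        exact isCyclic_of_subsingleton)
    refine ⟨H, N.map H.subtype, hH, map_subtype_le _, ?_, ?_, ?_, ?_⟩
    · intro t ht
      apply mem_normalizer_fintype
      rintro y ⟨z, hz, rfl⟩
      exact ⟨⟨t, ht⟩ * z * ⟨t, ht⟩⁻¹, hN.conj_mem z hz _, by simp⟩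
    · rintro _ ⟨a, ha, rfl⟩ _ ⟨b, hb, rfl⟩
      rw [← map_mul, hcomm a ha b hb, map_mul]
    · rw [card_map_of_injective H.subtype_injective]; exact hodd
    · intro p hp hpd
      have h1 : (N.map H.subtype).relIndex H = N.index := by
        show ((N.map H.subtype).subgroupOf H).index = N.index
        have h2 : (N.map H.subtype).subgroupOf H = N := comap_map_eq_self_of_injective H.subtype_injective N
        rw [h2]
      have h2 : N.index = 8 := by
        have h3 := hc.card_mul_card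
        have h4 := N.card_mul_index
        rw [← h4, hQ8] at h3
        exact (Nat.eq_of_mul_eq_mul_left Nat.card_pos h3).symm
      rw [h1, h2] at hpd
      exact (Nat.prime_dvd_prime_iff_eq hp Nat.prime_two).1 (hp.dvd_of_dvd_pow (n := 3) (by simpa using hpd))

/-- `V : 7` contains no involution normalising a subgroup of order 7 -/
theorem FS.false {S : Type u} [Group S] [Finite S] {H V : Subgroup S} (h : FS π H V) {x t : S} (hx : x ∈ H)
    (ht : t ∈ H) (hxo : orderOf x = 7) (hto : orderOf t = 2) (htx : t * x * t⁻¹ ∈ zpowers x) : False := by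
  have htt : t * t = 1 := by rw [← pow_two, ← hto, pow_orderOf_eq_one]
  have htV := h.mem t ht htt
  have hx7 : x ^ 7 = 1 := by rw [← hxo, pow_orderOf_eq_one]
  -- `t` and `x` commute
  have h1 : t * x * t⁻¹ * x⁻¹ = 1 := by
    have h2 : t * x * t⁻¹ * x⁻¹ ∈ V := by
      have h3 : t * x * t⁻¹ * x⁻¹ = t * (x * t⁻¹ * x⁻¹) := by group
      rw [h3]
      exact mul_mem htV ((mem_normalizer_iff.1 (h.nrm hx) _).1 (inv_mem htV))
    have h4 : t * x * t⁻¹ * x⁻¹ ∈ zpowers x := mul_mem htx (inv_mem (mem_zpowers x))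
    have h5 : (t * x * t⁻¹ * x⁻¹) ^ 8 = 1 := by
      have h6 : (⟨_, h2⟩ : V) ^ Nat.card V = 1 := pow_card_eq_one'
      rw [h.card] at h6
      exact congrArg Subtype.val h6
    have h7 : (t * x * t⁻¹ * x⁻¹) ^ 7 = 1 := by
      obtain ⟨k, hk⟩ := h4
      have hk : x ^ k = t * x * t⁻¹ * x⁻¹ := hk
      rw [← hk, ← zpow_natCast, ← zpow_mul, mul_comm, zpow_mul, zpow_natCast, hx7, one_zpow]
    rw [pow_succ, h7, one_mul] at h5
    exact h5
  have htc : t ∈ centralizer {x} := by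
    rw [mem_centralizer_singleton_iff]
    rw [mul_inv_eq_one] at h1
    exact mul_inv_eq_iff_eq_mul.1 h1
  have h2 := Cfsg.Agent.H555.PiBS.fix_card (by norm_num : Nat.Prime 7) hx7 V (h.nrm hx)
  rw [h.card] at h2
  have h3 : Nat.card (V ⊓ centralizer {x} : Subgroup S) ∣ 8 := by rw [← h.card]; exact card_dvd_of_le inf_le_left
  have h4 : Nat.card (V ⊓ centralizer {x} : Subgroup S) = 1 ∨ Nat.card (V ⊓ centralizer {x} : Subgroup S) = 8 := by
    have h5 := Nat.le_of_dvd (by norm_num) h3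
    have h6 : 8 % 7 = Nat.card (V ⊓ centralizer {x} : Subgroup S) % 7 := h2
    omega
  rcases h4 with h4 | h4
  · have h5 : t ∈ (V ⊓ centralizer {x} : Subgroup S) := ⟨htV, htc⟩
    rw [card_eq_one.1 h4, mem_bot] at h5
    rw [h5, orderOf_one] at hto
    omega
  · have h5 : (V ⊓ centralizer {x} : Subgroup S) = V := eq_of_le_of_card_ge inf_le_left (by rw [h4, h.card])
    have h6 : x ∈ centralizer (V : Set S) := by
      rw [mem_centralizer_iff]
      intro y hy
      have h7 : y ∈ (V ⊓ centralizer {x} : Subgroup S) := by rw [h5]; exact hy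
      exact mem_centralizer_singleton_iff.1 h7.2
    have h7 : orderOf (⟨x, h.cen h6⟩ : V) ∣ 8 := by rw [← h.card]; exact orderOf_dvd_natCard _
    rw [← orderOf_coe] at h7
    have h8 : orderOf x ∣ 8 := h7
    rw [hxo] at h8
    omega

/-- subgroups of order 7 of the Ree groups are normalised by involutions -/
theorem exists_seven {S : Type u} [Group S] [Finite S] (h : Lie.IsoRee S) (h7 : 7 ∣ Nat.card S) :
    ∃ x t : S, orderOf x = 7 ∧ orderOf t = 2 ∧ t * x * t⁻¹ ∈ zpowers x := by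
  obtain ⟨K, _, _, m, hm, hK, ⟨e⟩⟩ := h
  have hfin : Finite (Lie.twistedG2 K (3 ^ m)) := Finite.of_equiv S e.toEquiv
  have hf7 : Fact (Nat.Prime 7) := ⟨by norm_num⟩
  have hf2 : Fact (Nat.Prime 2) := ⟨Nat.prime_two⟩
  suffices hs : ∃ x t : Lie.twistedG2 K (3 ^ m), orderOf x = 7 ∧ orderOf t = 2 ∧ t * x * t⁻¹ ∈ zpowers x by
    obtain ⟨x, t, hx, ht, k, hk⟩ := hs
    refine ⟨e.symm x, e.symm t, by rw [MulEquiv.orderOf_eq, hx], by rw [MulEquiv.orderOf_eq, ht], k, ?_⟩
    have hk : x ^ k = t * x * t⁻¹ := hk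
    show e.symm x ^ k = e.symm t * e.symm x * (e.symm t)⁻¹
    rw [← map_zpow, hk, map_mul, map_mul, map_inv]
  obtain ⟨g, hg⟩ := exists_prime_orderOf_dvd_card' (G := S) 7 h7
  have hl := (Cfsg.Agent.S1159.result hm hK 7).1 ⟨e g, by rw [MulEquiv.orderOf_eq, hg]⟩
  have key : ∀ k n : ℕ, (k, n) ∈ ({((3 ^ (2 * m + 1) - 1) / 2, 2 * (3 ^ (2 * m + 1) - 1)), ((3 ^ (2 * m + 1) + 1) / 4, 6 * (3 ^ (2 * m + 1) + 1)),
        (3 ^ (2 * m + 1) - 3 ^ (m + 1) + 1, 6 * (3 ^ (2 * m + 1) - 3 ^ (m + 1) + 1)),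
        (3 ^ (2 * m + 1) + 3 ^ (m + 1) + 1, 6 * (3 ^ (2 * m + 1) + 3 ^ (m + 1) + 1))} : Set (ℕ × ℕ)) →
      7 ∣ k → 2 ∣ n → ∃ x t : Lie.twistedG2 K (3 ^ m), orderOf x = 7 ∧ orderOf t = 2 ∧ t * x * t⁻¹ ∈ zpowers x := by
    intro k n hkn h7k h2n
    obtain ⟨A, -, hA, hN, hall⟩ := Cfsg.Agent.S1158.result hm hK (k, n) hkn
    obtain ⟨a, ha⟩ := exists_prime_orderOf_dvd_card' (G := A) 7 (by rw [hA]; exact h7k)
    have ha' : orderOf (a : Lie.twistedG2 K (3 ^ m)) = 7 := by rw [Subgroup.orderOf_coe, ha]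
    have h1 := hall (zpowers (a : Lie.twistedG2 K (3 ^ m))) (zpowers_le.2 a.2) (by
      rw [Ne, zpowers_eq_bot]
      intro h5
      rw [h5, orderOf_one] at ha'
      omega)
    rw [← h1] at hN
    obtain ⟨t, ht⟩ := exists_prime_orderOf_dvd_card'
      (G := normalizer ((zpowers (a : Lie.twistedG2 K (3 ^ m)) : Subgroup _) : Set (Lie.twistedG2 K (3 ^ m)))) 2
      (by rw [hN]; exact h2n)
    refine ⟨a, t, ha', by rw [Subgroup.orderOf_coe, ht], ?_⟩
    exact (mem_normalizer_iff.1 t.2 _).1 (mem_zpowers _)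
  have hq8 : 3 ^ (2 * m + 1) % 8 = 3 := by
    have h1 : 3 ^ (2 * m + 1) = 9 ^ m * 3 := by rw [pow_succ, pow_mul]; norm_num
    rw [h1, Nat.mul_mod, Nat.pow_mod]
    norm_num
  rcases hl with hl | hl | hl | hl | hl | hl
  · norm_num at hl
  · norm_num at hl
  · refine key _ _ (Or.inl rfl) ?_ (Dvd.intro _ rfl)
    have h1 : 3 ^ (2 * m + 1) - 1 = 2 * ((3 ^ (2 * m + 1) - 1) / 2) := by omega
    rw [h1] at hl
    exact (Nat.Coprime.dvd_mul_left (by norm_num)).1 hl
  · refine key _ _ (Or.inr (Or.inl rfl)) ?_ ((by norm_num : 2 ∣ 6).mul_right _)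
    have h1 : (3 ^ (2 * m + 1) + 1) / 2 = 2 * ((3 ^ (2 * m + 1) + 1) / 4) := by omega
    rw [h1] at hl
    exact (Nat.Coprime.dvd_mul_left (by norm_num)).1 hl
  · exact key _ _ (Or.inr (Or.inr (Or.inl rfl))) hl ((by norm_num : 2 ∣ 6).mul_right _)
  · exact key _ _ (Or.inr (Or.inr (Or.inr rfl))) hl ((by norm_num : 2 ∣ 6).mul_right _)

/-- **Box R3, `²G₂(q)`.** -/
theorem ftwo_ree {S : Type u} [Group S] [Finite S] (h2 : 2 ∈ π) (h3 : 3 ∉ π) (h : Lie.IsoRee S) (hDB : DB π S) :
    FTwo π S := by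
  have h8 := eight_ree h
  obtain ⟨H, hH, -⟩ := hDB.dom ⊥ (by
    intro p hp hd
    rw [Subgroup.card_bot] at hd
    exact absurd (Nat.dvd_one.mp hd) hp.one_lt.ne')
  rcases two_or h2 h3 h8 hH with h4 | ⟨V, hV⟩
  · exact h4
  have h7π : 7 ∈ π := hH.1 7 (by norm_num) hV.seven
  obtain ⟨x, t, hx, ht, htx⟩ := exists_seven h (hV.seven.trans (card_subgroup_dvd_card H))
  have hK : PiN π (Nat.card (zpowers t ⊔ zpowers x : Subgroup S)) := by
    refine piN_sup (zpowers_le.2 ?_) ?_ ?_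
    · apply mem_normalizer_fintype
      rintro y ⟨k, rfl⟩
      show t * x ^ k * t⁻¹ ∈ zpowers x
      rw [← conj_zpow]
      exact zpow_mem htx k
    · intro p hp hpd
      rw [Nat.card_zpowers, ht] at hpd
      rw [(Nat.prime_dvd_prime_iff_eq hp Nat.prime_two).1 hpd]
      exact h2
    · intro p hp hpd
      rw [Nat.card_zpowers, hx] at hpd
      rw [(Nat.prime_dvd_prime_iff_eq hp (by norm_num)).1 hpd]
      exact h7π
  obtain ⟨H', hH', hle⟩ := hDB.dom _ hK
  rcases two_or h2 h3 h8 hH' with h4 | ⟨V', hV'⟩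
  · exact h4
  · exact (hV'.false (hle (mem_sup_right (mem_zpowers x))) (hle (mem_sup_left (mem_zpowers t))) hx ht htx).elim

end Cfsg.Agent.H555.RV.ReeRow
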